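import Cfsg.Agent.SixPlane.Lifts
import Mathlib.GroupTheory.Transfer
import Mathlib.GroupTheory.Abelianization.Defs

/-!
The extension `A₀` has no complement to the centre invariant under the stabiliser.
-/

set_option autoImplicit false
set_option linter.unusedSectionVars false
set_option linter.style.haveILetI false

namespace CfsgLib.SixPlane

open Matrix CfsgLib.Unitary CfsgLib.ThreeT CfsgLib.ThreeT.SixTwo
open scoped Pointwise

variable {F : Type} [Field F] [CharP F 2] [Finite F] (hF : Nat.card F = 2 ^ 2) {ω : F}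
  (hω : ω ^ 2 = ω + 1) {C : Type*} [Group C] [Finite C]

local notation "hh" => Cfsg.hermForm 6 F 2
local notation "π" => QuotientGroup.mk' (Subgroup.center (Cfsg.SU 6 F 2))

/-- A central element of a perfect group lies in the derived group of a Sylow subgroup. -/
theorem central_mem_derived {E : Type*} [Group E] [Finite E] {p : ℕ} [hp : Fact p.Prime]
    (hE : commutator E = ⊤) (Q : Sylow p E) {z : E} (hzQ : z ∈ (Q : Subgroup E))
    (hz : z ∈ Subgroup.center E) :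
    (⟨z, hzQ⟩ : ↥(Q : Subgroup E)) ∈ commutator ↥(Q : Subgroup E) := by
  set ϕ : ↥(Q : Subgroup E) →* Abelianization ↥(Q : Subgroup E) := Abelianization.of
  have key : ∀ (k : ℕ) (g₀ : E), g₀⁻¹ * z ^ k * g₀ ∈ (Q : Subgroup E) → g₀⁻¹ * z ^ k * g₀ = z ^ k :=
    fun k g₀ _ => by rw [mul_assoc, ← Subgroup.mem_center_iff.1 (pow_mem hz k) g₀, inv_mul_cancel_left]
  have h1 : MonoidHom.transfer ϕ z = 1 :=
    MonoidHom.mem_ker.1 (Abelianization.commutator_subset_ker _ (hE.symm ▸ Subgroup.mem_top z))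
  rw [MonoidHom.transfer_eq_pow ϕ z key] at h1
  have h2 : ϕ ⟨z, hzQ⟩ ^ (Q : Subgroup E).index = 1 := by rw [← map_pow]; exact h1
  obtain ⟨j, hj⟩ := IsPGroup.iff_orderOf.1 Q.2 ⟨z, hzQ⟩
  obtain ⟨k, -, hk⟩ := (Nat.dvd_prime_pow hp.out).1 (hj ▸ orderOf_map_dvd ϕ (⟨z, hzQ⟩ : ↥(Q : Subgroup E)))
  have h3 : orderOf (ϕ ⟨z, hzQ⟩) = 1 := Nat.eq_one_of_dvd_coprimes
    (((hp.out.coprime_iff_not_dvd).2 Q.not_dvd_index).pow_left k) hk.dvd (orderOf_dvd_of_pow_eq_one h2)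
  exact (QuotientGroup.eq_one_iff _).1 (orderOf_eq_one_iff.1 h3)

namespace Cov

variable (K : Cov F C) {k₀ : C}

/-- The subgroup generated by the chosen lifts of points in a subspace. -/
noncomputable def planeGrp (k₀ : C) (P : Submodule F (Fin 6 → F)) : Subgroup C :=
  Subgroup.closure {x | ∃ v ∈ P, IsPt v ∧ K.kk hF k₀ v = x}

/-- The three planes' spans. -/
def plane (r : Fin 3 → Fin 6 → F) : Submodule F (Fin 6 → F) := Submodule.span F (Set.range r)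

omit [CharP F 2] [Finite F] in
theorem mem_plane {r : Fin 3 → Fin 6 → F} {v : Fin 6 → F} :
    v ∈ plane r ↔ ∃ c : Fin 3 → F, ∑ i, c i • r i = v := Submodule.mem_span_range_iff_exists_fun F

include hF hω

/-- The lifts for one plane form an elementary group avoiding the centre. -/
theorem planeGrp_props (hk₀ : K.φ k₀ = π (tv hF (bu 0))) {H : Subgroup C}
    (hH : H ≤ K.base) (hz : K.z ∉ H) (h0 : k₀ ∈ H) (hinv : ∀ m ∈ K.stab, ∀ x ∈ H, m * x * m⁻¹ ∈ H)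
    {r : Fin 3 → Fin 6 → F} (hr : LinearIndependent F r) (ho : ∀ i j, hh (r i) (r j) = 0) :
    (∀ x ∈ K.planeGrp hF k₀ (plane r), x * x = 1) ∧
      ∀ x ∈ K.planeGrp hF k₀ (plane r), K.φ x = 1 → x = 1 := by
  obtain ⟨g, l, hl, hg⟩ := exists_move hF r hr ho
  obtain ⟨c, hc⟩ := K.surj (π g)
  have hle : K.planeGrp hF k₀ (plane r) ≤ H.map (MulAut.conj c).toMonoidHom := by
    refine (Subgroup.closure_le _).2 ?_
    rintro _ ⟨v, hv, hpt, rfl⟩
    obtain ⟨a, rfl⟩ := mem_plane.1 hv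
    set b : Fin 3 → F := fun i => a i / l i
    have e : suMat g *ᵥ emb b = ∑ i, a i • r i := by
      conv_lhs => rw [pi_eq_sum_univ' b]
      simp only [map_sum, map_smul, Matrix.mulVec_sum, Matrix.mulVec_smul, hg, smul_smul]
      exact Finset.sum_congr rfl fun i _ => by rw [div_mul_cancel₀ _ (hl i)]
    have hb : b ≠ 0 := fun hb => hpt.1 (by rw [← e, hb, map_zero, Matrix.mulVec_zero])
    refine ⟨_, K.kk_mem hF hω hk₀ h0 hinv hb, ?_⟩
    show c * _ * c⁻¹ = _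
    rw [K.kk_conj hF hω hk₀ hc (isPt_emb hb), e]
  refine ⟨fun x hx => ?_, fun x hx hφ => ?_⟩
  · obtain ⟨y, hy, rfl⟩ := hle hx
    rw [← map_mul, (K.base_elementary hF hω).2 y (hH hy), map_one]
  · rcases (K.ker_iff x).1 hφ with h | rfl
    · exact h
    · obtain ⟨y, hy, e⟩ := hle hx
      change c * y * c⁻¹ = K.z at e
      refine absurd ?_ hz
      rw [← K.conj_z c⁻¹, inv_inv, ← e]
      rwa [show c⁻¹ * (c * y * c⁻¹) * c = y by group]

theorem exists_el_lift (hk₀ : K.φ k₀ = π (tv hF (bu 0))) {P : Submodule F (Fin 6 → F)} {v w : Fin 6 → F}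
    (hv : v ∈ P) (hw : w ∈ P) (hvv : hh v v = 0) (hww : hh w w = 0) (hvw : hh v w = 0) :
    ∃ x ∈ K.planeGrp hF k₀ P, K.φ x = π (el hF v w) := by
  have hone : ∀ u ∈ P, hh u u = 0 → ∃ x ∈ K.planeGrp hF k₀ P, K.φ x = π (tv hF u) := by
    intro u hu huu
    by_cases h0 : u = 0
    · refine ⟨1, one_mem _, ?_⟩
      rw [map_one, h0, show tv hF (0 : Fin 6 → F) = 1 from su_ext fun x => by
        rw [tv_apply hF (hh_zero_left hF 0), smul_zero, add_zero, suMat_one, Matrix.one_mulVec], map_one]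
    · exact ⟨_, Subgroup.subset_closure ⟨u, hu, ⟨h0, huu⟩, rfl⟩, (K.kk_spec hF hk₀ ⟨h0, huu⟩).image⟩
  obtain ⟨x, hx, ex⟩ := hone v hv hvv
  obtain ⟨y, hy, ey⟩ := hone w hw hww
  obtain ⟨t, ht, et⟩ := hone (v + w) (add_mem hv hw)
    (by simp [herm_add_left, hh_add_right hF, hvv, hww, hvw, (hh_comm hF).1 hvw])
  exact ⟨x * y * t, mul_mem (mul_mem hx hy) ht, by rw [el, map_mul, map_mul, map_mul, map_mul, ex, ey, et]⟩

theorem planeGrp_conj (hk₀ : K.φ k₀ = π (tv hF (bu 0))) {P : Submodule F (Fin 6 → F)} {g : Cfsg.SU 6 F 2}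
    {c : C} (hc : K.φ c = π g) (hg : ∀ v ∈ P, suMat g *ᵥ v ∈ P) {x : C} (hx : x ∈ K.planeGrp hF k₀ P) :
    c * x * c⁻¹ ∈ K.planeGrp hF k₀ P := by
  have hle : (K.planeGrp hF k₀ P).map (MulAut.conj c).toMonoidHom ≤ K.planeGrp hF k₀ P := by
    rw [planeGrp, MonoidHom.map_closure, Subgroup.closure_le]
    rintro _ ⟨_, ⟨v, hv, hpt, rfl⟩, rfl⟩
    refine Subgroup.subset_closure ⟨suMat g *ᵥ v, hg v hv,
      ⟨su_mulVec_ne_zero g hpt.1, by rw [su_preserves]; exact hpt.2⟩, ?_⟩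
    exact (K.kk_conj hF hω hk₀ hc hpt).symm
  exact hle ⟨x, hx, rfl⟩

/-- No invariant complement to the centre in `A₀` exists. -/
theorem no_split {H : Subgroup C} (hH : H ≤ K.base) (hz : K.z ∉ H) (hcard : Nat.card ↥H = 512)
    (hinv : ∀ m ∈ K.stab, ∀ x ∈ H, m * x * m⁻¹ ∈ H) : False := by
  haveI : Fact (Nat.Prime 2) := ⟨Nat.prime_two⟩
  -- the image of `H` is everything
  have hHinj : ∀ x ∈ H, K.φ x = 1 → x = 1 := fun x hx e =>
    ((K.ker_iff x).1 e).resolve_right fun e' => hz (e' ▸ hx)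
  have himg : H.map K.φ = (fixPlane (F := F)).map π := by
    refine Subgroup.eq_of_le_of_card_ge (Subgroup.map_le_iff_le_comap.2 hH) ?_
    rw [card_map_pi hF (fixPlane_le_flag hF), card_fixPlane hF hω, ← hcard]
    refine Nat.card_le_card_of_injective (fun x : ↥H => (⟨K.φ x, x, x.2, rfl⟩ : ↥(H.map K.φ))) fun a b e => ?_
    refine Subtype.ext (inv_mul_eq_one.1 (hHinj _ (mul_mem (inv_mem a.2) b.2) ?_))
    rw [map_mul, map_inv, inv_mul_eq_one]; exact congrArg Subtype.val e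
  have hHlift : ∀ q ∈ fixPlane (F := F), ∃ x ∈ H, K.φ x = π q := fun q hq => by
    have : π q ∈ H.map K.φ := himg ▸ Subgroup.mem_map_of_mem _ hq
    obtain ⟨x, hx, e⟩ := this
    exact ⟨x, hx, e⟩
  obtain ⟨k₀, h0, hk₀⟩ := hHlift (tv hF (bu 0)) (isTr_tv hF _).mem
  obtain ⟨h11, h22, h12, h01, h02, h12', -, -, -⟩ := duals hF hω
  -- the two planes
  set r₁ : Fin 3 → Fin 6 → F := ![bu 0, dd1 ω, dd2 ω]
  set r₂ : Fin 3 → Fin 6 → F := ![bu 0, bu 1, dd2 ω]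
  have hr₁ : LinearIndependent F r₁ := by
    refine Fintype.linearIndependent_iff.2 fun c hc => ?_
    have e0 := congrFun hc 0
    have e2 := congrFun hc 2
    have e4 := congrFun hc 4
    obtain ⟨w0, -⟩ := omega_ne hω
    simp [r₁, Fin.sum_univ_three, bu, emb, dd1, dd2] at e0 e2 e4
    intro j; fin_cases j <;> simp_all
  have hr₂ : LinearIndependent F r₂ := by
    refine Fintype.linearIndependent_iff.2 fun c hc => ?_
    have e0 := congrFun hc 0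
    have e2 := congrFun hc 2
    have e4 := congrFun hc 4
    obtain ⟨w0, -⟩ := omega_ne hω
    simp [r₂, Fin.sum_univ_three, bu, emb, dd2] at e0 e2 e4
    intro j; fin_cases j <;> simp_all
  have ho₁ : ∀ i j, hh (r₁ i) (r₁ j) = 0 := fun i j => by
    fin_cases i <;> fin_cases j <;>
      simp [r₁, hh_bu, h11, h22, h12, h01, h02, (hh_comm hF).1 h12, (hh_comm hF).1 h01, (hh_comm hF).1 h02]
  have ho₂ : ∀ i j, hh (r₂ i) (r₂ j) = 0 := fun i j => by
    fin_cases i <;> fin_cases j <;>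
      simp [r₂, hh_bu, h22, h02, h12', (hh_comm hF).1 h12', (hh_comm hF).1 h02]
  obtain ⟨sq₁, inj₁⟩ := K.planeGrp_props hF hω hk₀ hH hz h0 hinv hr₁ ho₁
  obtain ⟨sq₂, inj₂⟩ := K.planeGrp_props hF hω hk₀ hH hz h0 hinv hr₂ ho₂
  set P₁ := K.planeGrp hF k₀ (plane r₁)
  set P₂ := K.planeGrp hF k₀ (plane r₂)
  have hm₁ : ∀ i, r₁ i ∈ plane r₁ := fun i => Submodule.subset_span ⟨i, rfl⟩
  have hm₂ : ∀ i, r₂ i ∈ plane r₂ := fun i => Submodule.subset_span ⟨i, rfl⟩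
  -- the sections over the two root groups
  have hl1 : ∀ a, ∃ x ∈ P₁, K.φ x = π (e12 hF ω a) := fun a =>
    K.exists_el_lift hF hω hk₀ (hm₁ 0) (Submodule.smul_mem _ a (hm₁ 1)) (hh_bu 0 0)
      (hh_smul_zero hF h11 a a) (by rw [herm_smul_right hF]; show _ * hh (bu 0) (dd1 ω) = 0; rw [h01, mul_zero])
  have hl2 : ∀ b c, ∃ x ∈ P₂, K.φ x = π (l2 hF ω b c) := fun b c => by
    obtain ⟨x, hx, ex⟩ := K.exists_el_lift hF hω hk₀ (hm₂ 0) (Submodule.smul_mem _ b (hm₂ 2)) (hh_bu 0 0)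
      (hh_smul_zero hF h22 b b) (by rw [herm_smul_right hF]; show _ * hh (bu 0) (dd2 ω) = 0; rw [h02, mul_zero])
    obtain ⟨y, hy, ey⟩ := K.exists_el_lift hF hω hk₀ (hm₂ 1) (Submodule.smul_mem _ c (hm₂ 2)) (hh_bu 1 1)
      (hh_smul_zero hF h22 c c) (by rw [herm_smul_right hF]; show _ * hh (bu 1) (dd2 ω) = 0; rw [h12', mul_zero])
    exact ⟨x * y, mul_mem hx hy, by rw [l2, map_mul, map_mul, ex, ey]; rfl⟩
  let U₁ : Subgroup C :=
    { carrier := {x | x ∈ P₁ ∧ ∃ a, K.φ x = π (e12 hF ω a)}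
      one_mem' := ⟨one_mem _, 0, by
        rw [map_one, show e12 hF ω (0 : F) = 1 from (mul_eq_left (a := e12 hF ω (0 : F))).1 (by rw [← e12_add hF hω, add_zero]), map_one]⟩
      mul_mem' := by
        rintro x y ⟨hx, a, ha⟩ ⟨hy, b, hb⟩
        exact ⟨mul_mem hx hy, a + b, by rw [map_mul, ha, hb, e12_add hF hω, map_mul]⟩
      inv_mem' := by
        rintro x ⟨hx, a, ha⟩
        refine ⟨inv_mem hx, a, ?_⟩
        rw [inv_eq_of_mul_eq_one_right (sq₁ x hx), ha] }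
  let U₂ : Subgroup C :=
    { carrier := {x | x ∈ P₂ ∧ ∃ b c, K.φ x = π (l2 hF ω b c)}
      one_mem' := ⟨one_mem _, 0, 0, by
        rw [map_one, show l2 hF ω (0 : F) 0 = 1 from (mul_eq_left (a := l2 hF ω (0 : F) 0)).1 (by rw [← l2_add hF hω, add_zero]), map_one]⟩
      mul_mem' := by
        rintro x y ⟨hx, a, a', ha⟩ ⟨hy, b, b', hb⟩
        exact ⟨mul_mem hx hy, a + b, a' + b', by rw [map_mul, ha, hb, l2_add hF hω, map_mul]⟩
      inv_mem' := by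
        rintro x ⟨hx, a, a', ha⟩
        refine ⟨inv_mem hx, a, a', ?_⟩
        rw [inv_eq_of_mul_eq_one_right (sq₂ x hx), ha] }
  have hn12 : U₁ ≤ Subgroup.normalizer (U₂ : Set C) := by
    have key : ∀ x ∈ U₁, ∀ y ∈ U₂, x * y * x⁻¹ ∈ U₂ := by
      rintro x ⟨-, a, ha⟩ y ⟨hy, b, c, hb⟩
      refine ⟨K.planeGrp_conj hF hω hk₀ ha (fun v hv => ?_) hy, b + a * c, c, ?_⟩
      · obtain ⟨t, rfl⟩ := mem_plane.1 hv
        obtain ⟨g0, g1, -, gd⟩ := e12_bu hF hω a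
        simp only [Fin.sum_univ_three, r₂, Matrix.cons_val, Matrix.mulVec_add, Matrix.mulVec_smul, g0, g1, gd]
        exact add_mem (add_mem (Submodule.smul_mem _ _ (hm₂ 0)) (Submodule.smul_mem _ _
          (add_mem (hm₂ 1) (Submodule.smul_mem _ _ (hm₂ 0))))) (Submodule.smul_mem _ _ (hm₂ 2))
      · rw [map_mul, map_mul, map_inv, ha, hb, ← e12_l2 hF hω, map_mul, map_mul, map_inv]
    intro x hx
    refine Subgroup.mem_normalizer_iff.2 fun y => ⟨key x hx y, fun h => ?_⟩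
    have := key x⁻¹ (inv_mem hx) _ h
    simpa [mul_assoc] using this
  set U := U₁ ⊔ U₂
  have hU : ∀ u ∈ U, ∃ x ∈ U₁, ∃ y ∈ U₂, x * y = u := by
    intro u hu
    have : u ∈ ((U₁ : Set C) * (U₂ : Set C)) := by
      rw [← Subgroup.coe_mul_of_left_le_normalizer_right _ _ hn12]; exact hu
    exact Set.mem_mul.1 this
  have hUsyl : U ≤ K.syl := sup_le
    (fun x ⟨_, a, ha⟩ => ⟨_, e12_mem hF hω a, ha.symm⟩) fun x ⟨_, b, c, hb⟩ => ⟨_, l2_mem hF hω b c, hb.symm⟩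
  have hUH : U ≤ Subgroup.normalizer (H : Set C) := fun u hu => by
    have hm := K.syl_le hF (hUsyl hu)
    refine Subgroup.mem_normalizer_iff.2 fun y => ⟨hinv u hm y, fun h => ?_⟩
    have := hinv u⁻¹ (inv_mem hm) _ h
    simpa [mul_assoc] using this
  set T := H ⊔ U
  have hT : ∀ t ∈ T, ∃ h ∈ H, ∃ x ∈ U₁, ∃ y ∈ U₂, h * (x * y) = t := by
    intro t ht
    have : t ∈ ((H : Set C) * (U : Set C)) := by
      rw [← Subgroup.coe_mul_of_right_le_normalizer_left _ _ hUH]; exact ht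
    obtain ⟨h, hh', u, hu, rfl⟩ := Set.mem_mul.1 this
    obtain ⟨x, hx, y, hy, rfl⟩ := hU u hu
    exact ⟨h, hh', x, hx, y, hy, rfl⟩
  have hzT : K.z ∉ T := by
    intro hzT
    obtain ⟨h, hh', x, ⟨hx, a, ha⟩, y, ⟨hy, b, c, hb⟩, e⟩ := hT _ hzT
    obtain ⟨q, hq, eq⟩ := hH hh'
    have := congrArg K.φ e
    rw [map_mul, map_mul, K.phi_z, ← eq, ha, hb, ← map_mul, ← map_mul, ← map_one π] at this
    have h1 := pi_injOn hF (mul_mem (fixPlane_le_flag hF hq) (mul_mem (e12_mem hF hω a) (l2_mem hF hω b c)))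
      (one_mem _) this
    have e0 : e12 hF ω (0 : F) = 1 := (mul_eq_left (a := e12 hF ω (0 : F))).1 (by rw [← e12_add hF hω, add_zero])
    have e1 : l2 hF ω (0 : F) 0 = 1 := (mul_eq_left (a := l2 hF ω (0 : F) 0)).1 (by rw [← l2_add hF hω, add_zero])
    obtain ⟨rfl, rfl, rfl, rfl⟩ := decomp_inj hF hω hq (one_mem _) (a' := 0) (b' := 0) (c' := 0)
      (by rw [h1, e0, e1, one_mul, one_mul])
    rw [e0, map_one] at ha
    rw [e1, map_one] at hb
    rw [inj₁ x hx ha, inj₂ y hy hb, mul_one, mul_one] at e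
    exact hz (e ▸ hh')
  have hTS : T ≤ K.syl := sup_le (hH.trans (K.base_le_syl hF)) hUsyl
  have hcov : ∀ s ∈ K.syl, s ∈ T ∨ K.z * s ∈ T := by
    intro s hs
    obtain ⟨g, hg, eg⟩ := hs
    obtain ⟨a, b, c, q, hq, rfl⟩ := flag_decomp hF hω hg
    obtain ⟨h, hh', eh⟩ := hHlift q hq
    obtain ⟨x, hx, ex⟩ := hl1 a
    obtain ⟨y, hy, ey⟩ := hl2 b c
    have hmem : h * (x * y) ∈ T := mul_mem (Subgroup.mem_sup_left hh')
      (Subgroup.mem_sup_right (mul_mem (Subgroup.mem_sup_left ⟨hx, a, ex⟩) (Subgroup.mem_sup_right ⟨hy, b, c, ey⟩)))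
    have e' : K.φ s = K.φ (h * (x * y)) := by
      rw [map_mul, map_mul, eh, ex, ey, ← eg, map_mul, map_mul]
    rcases K.same_image e' with e | e
    · left; rwa [← e]
    · right; rwa [← e]
  -- transfer
  obtain ⟨P, hP⟩ := K.syl_sylow hF hω
  have hzP : K.z ∈ (P : Subgroup C) := by rw [hP]; exact K.base_le_syl hF (K.z_mem_base hF)
  have hder := central_mem_derived K.perfect P hzP (Subgroup.mem_center_iff.2 fun g => (K.central g).symm)
  have hnot : ∀ a ∈ K.syl, ∀ b ∈ K.syl, a * b * a⁻¹ * b⁻¹ ∈ T := by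
    intro a ha b hb
    have hzc := fun g => K.central g
    have key : ∀ a' b', a' ∈ T → b' ∈ T → a * b * a⁻¹ * b⁻¹ = a' * b' * a'⁻¹ * b'⁻¹ →
        a * b * a⁻¹ * b⁻¹ ∈ T := fun a' b' h1 h2 e =>
      e ▸ mul_mem (mul_mem (mul_mem h1 h2) (inv_mem h1)) (inv_mem h2)
    rcases hcov a ha with h1 | h1 <;> rcases hcov b hb with h2 | h2
    · exact key a b h1 h2 rfl
    · refine key a (K.z * b) h1 h2 ?_
      calc a * b * a⁻¹ * b⁻¹ = a * b * a⁻¹ * b⁻¹ * (K.z * K.z⁻¹) := by group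
        _ = a * b * (a⁻¹ * b⁻¹ * K.z) * K.z⁻¹ := by group
        _ = a * b * (K.z * (a⁻¹ * b⁻¹)) * K.z⁻¹ := by rw [hzc]
        _ = a * (b * K.z) * a⁻¹ * b⁻¹ * K.z⁻¹ := by group
        _ = a * (K.z * b) * a⁻¹ * (K.z * b)⁻¹ := by rw [← hzc b]; group
    · refine key (K.z * a) b h1 h2 ?_
      calc a * b * a⁻¹ * b⁻¹ = a * b * a⁻¹ * (K.z⁻¹ * K.z) * b⁻¹ := by group
        _ = a * b * a⁻¹ * K.z⁻¹ * (K.z * b⁻¹) := by group
        _ = a * b * a⁻¹ * K.z⁻¹ * b⁻¹ * K.z := by rw [hzc]; group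
        _ = K.z * (a * b * a⁻¹ * K.z⁻¹ * b⁻¹) := by rw [← hzc]
        _ = K.z * a * b * (K.z * a)⁻¹ * b⁻¹ := by group
    · refine key (K.z * a) (K.z * b) h1 h2 ?_
      calc a * b * a⁻¹ * b⁻¹ = a * b * a⁻¹ * b⁻¹ * (K.z * K.z⁻¹) := by group
        _ = a * b * (a⁻¹ * b⁻¹ * K.z) * K.z⁻¹ := by group
        _ = a * b * (K.z * (a⁻¹ * b⁻¹)) * K.z⁻¹ := by rw [hzc]
        _ = a * (b * K.z) * a⁻¹ * b⁻¹ * K.z⁻¹ := by group
        _ = a * (K.z * b) * a⁻¹ * (K.z * b)⁻¹ := by rw [← hzc b]; group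
        _ = K.z⁻¹ * (K.z * (a * (K.z * b) * a⁻¹)) * (K.z * b)⁻¹ := by group
        _ = K.z⁻¹ * (a * (K.z * b) * a⁻¹ * K.z) * (K.z * b)⁻¹ := by rw [hzc (a * (K.z * b) * a⁻¹)]
        _ = K.z⁻¹ * (a * (K.z * b) * a⁻¹) * K.z * (K.z * b)⁻¹ := by group
        _ = K.z * (a * (K.z * b) * a⁻¹) * K.z⁻¹ * (K.z * b)⁻¹ := by rw [K.z_inv]
        _ = K.z * a * (K.z * b) * (K.z * a)⁻¹ * (K.z * b)⁻¹ := by group
  have hle : commutator ↥(P : Subgroup C) ≤ T.subgroupOf (P : Subgroup C) := by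
    rw [commutator_def, Subgroup.commutator_le]
    intro a _ b _
    rw [commutatorElement_def, Subgroup.mem_subgroupOf]
    exact hnot _ (hP ▸ a.2) _ (hP ▸ b.2)
  exact hzT (hle hder)

end Cov

end CfsgLib.SixPlane
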