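import Mathlib.Data.Fintype.Pi
import Mathlib.Data.Fin.VecNotation
import Mathlib.Tactic.FinCases

/-!
Tables for the points of a plane over the field with four elements and the Hermitian forms they span.

The elements of the field are numbered `0, 1, ω, ω + 1`; the code of a Hermitian `3 × 3` matrix has the
bits of the three diagonal entries, then of the entries `(0,1)`, `(0,2)`, `(1,2)`.
-/

set_option autoImplicit false

namespace CfsgLib.SixPlane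

/-- Addition in the field of four elements. -/
def add4 : Fin 4 → Fin 4 → Fin 4 := ![![0, 1, 2, 3], ![1, 0, 3, 2], ![2, 3, 0, 1], ![3, 2, 1, 0]]

/-- Multiplication in the field of four elements. -/
def mul4 : Fin 4 → Fin 4 → Fin 4 := ![![0, 0, 0, 0], ![0, 1, 2, 3], ![0, 2, 3, 1], ![0, 3, 1, 2]]

/-- The 21 points. -/
def pts : Fin 21 → Fin 3 → Fin 4 :=
  ![![1, 0, 0], ![0, 1, 0], ![0, 0, 1], ![0, 1, 1], ![0, 1, 2], ![0, 1, 3], ![1, 0, 1], ![1, 0, 2], ![1, 0, 3], ![1, 1, 0], ![1, 1, 1], ![1, 1, 2], ![1, 1, 3], ![1, 2, 0], ![1, 2, 1], ![1, 2, 2], ![1, 2, 3], ![1, 3, 0], ![1, 3, 1], ![1, 3, 2], ![1, 3, 3]]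

/-- An entry of the rank one form of a point. -/
def entry4 (a : Fin 3 → Fin 4) (k j : Fin 3) : Fin 4 := mul4 (a k) (mul4 (a j) (a j))

/-- The code of the rank one form of a point. -/
def code (a : Fin 3 → Fin 4) : ℕ :=
  (entry4 a 0 0).val ||| (entry4 a 1 1).val <<< 1 ||| (entry4 a 2 2).val <<< 2 |||
    (entry4 a 0 1).val <<< 3 ||| (entry4 a 0 2).val <<< 5 ||| (entry4 a 1 2).val <<< 7

/-- The determinant of three points. -/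
def det4 (a b c : Fin 3 → Fin 4) : Fin 4 :=
  add4 (add4 (mul4 (a 0) (add4 (mul4 (b 1) (c 2)) (mul4 (b 2) (c 1))))
    (mul4 (a 1) (add4 (mul4 (b 0) (c 2)) (mul4 (b 2) (c 0)))))
    (mul4 (a 2) (add4 (mul4 (b 0) (c 1)) (mul4 (b 1) (c 0))))

/-- Triples of independent points, for the forms of rank one, two and three. -/
def cls : Fin 3 → List (Fin 21 × Fin 21 × Fin 21)
  | 0 => [
  (0, 1, 2), (1, 0, 2), (2, 0, 1), (3, 0, 1), (4, 0, 1), (5, 0, 1), (6, 0, 1), (7, 0, 1),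
  (8, 0, 1), (9, 0, 2), (10, 0, 1), (11, 0, 1), (12, 0, 1), (13, 0, 2), (14, 0, 1), (15, 0, 1),
  (16, 0, 1), (17, 0, 2), (18, 0, 1), (19, 0, 1), (20, 0, 1)]
  | 1 => [
  (0, 1, 2), (0, 2, 1), (0, 3, 1), (0, 4, 1), (0, 5, 1), (0, 6, 1), (0, 7, 1), (0, 8, 1),
  (0, 9, 2), (0, 10, 1), (0, 11, 1), (0, 12, 1), (0, 13, 2), (0, 14, 1), (0, 15, 1), (0, 16, 1),
  (0, 17, 2), (0, 18, 1), (0, 19, 1), (0, 20, 1), (1, 2, 0), (1, 3, 0), (1, 4, 0), (1, 5, 0),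
  (1, 6, 0), (1, 7, 0), (1, 8, 0), (1, 9, 2), (1, 10, 0), (1, 11, 0), (1, 12, 0), (1, 13, 2),
  (1, 14, 0), (1, 15, 0), (1, 16, 0), (1, 17, 2), (1, 18, 0), (1, 19, 0), (1, 20, 0), (2, 3, 0),
  (2, 4, 0), (2, 5, 0), (2, 6, 1), (2, 7, 1), (2, 8, 1), (2, 9, 0), (2, 10, 0), (2, 11, 0),
  (2, 12, 0), (2, 13, 0), (2, 14, 0), (2, 15, 0), (2, 16, 0), (2, 17, 0), (2, 18, 0), (2, 19, 0),
  (2, 20, 0), (3, 4, 0), (3, 5, 0), (3, 6, 0), (3, 7, 0), (3, 8, 0), (3, 9, 0), (3, 10, 1),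
  (3, 11, 0), (3, 12, 0), (3, 13, 0), (3, 14, 0), (3, 15, 1), (3, 16, 0), (3, 17, 0), (3, 18, 0),
  (3, 19, 0), (3, 20, 1), (4, 5, 0), (4, 6, 0), (4, 7, 0), (4, 8, 0), (4, 9, 0), (4, 10, 0),
  (4, 11, 1), (4, 12, 0), (4, 13, 0), (4, 14, 0), (4, 15, 0), (4, 16, 1), (4, 17, 0), (4, 18, 1),
  (4, 19, 0), (4, 20, 0), (5, 6, 0), (5, 7, 0), (5, 8, 0), (5, 9, 0), (5, 10, 0), (5, 11, 0),
  (5, 12, 1), (5, 13, 0), (5, 14, 1), (5, 15, 0), (5, 16, 0), (5, 17, 0), (5, 18, 0), (5, 19, 1),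
  (5, 20, 0), (6, 7, 1), (6, 8, 1), (6, 9, 0), (6, 10, 0), (6, 11, 0), (6, 12, 0), (6, 13, 0),
  (6, 14, 0), (6, 15, 0), (6, 16, 0), (6, 17, 0), (6, 18, 0), (6, 19, 0), (6, 20, 0), (7, 8, 1),
  (7, 9, 0), (7, 10, 0), (7, 11, 0), (7, 12, 0), (7, 13, 0), (7, 14, 0), (7, 15, 0), (7, 16, 0),
  (7, 17, 0), (7, 18, 0), (7, 19, 0), (7, 20, 0), (8, 9, 0), (8, 10, 0), (8, 11, 0), (8, 12, 0),
  (8, 13, 0), (8, 14, 0), (8, 15, 0), (8, 16, 0), (8, 17, 0), (8, 18, 0), (8, 19, 0), (8, 20, 0),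
  (9, 10, 0), (9, 11, 0), (9, 12, 0), (9, 13, 2), (9, 14, 0), (9, 15, 0), (9, 16, 0), (9, 17, 2),
  (9, 18, 0), (9, 19, 0), (9, 20, 0), (10, 11, 0), (10, 12, 0), (10, 13, 0), (10, 14, 0), (10, 15, 1),
  (10, 16, 0), (10, 17, 0), (10, 18, 0), (10, 19, 0), (10, 20, 1), (11, 12, 0), (11, 13, 0), (11, 14, 0),
  (11, 15, 0), (11, 16, 1), (11, 17, 0), (11, 18, 1), (11, 19, 0), (11, 20, 0), (12, 13, 0), (12, 14, 1),
  (12, 15, 0), (12, 16, 0), (12, 17, 0), (12, 18, 0), (12, 19, 1), (12, 20, 0), (13, 14, 0), (13, 15, 0),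
  (13, 16, 0), (13, 17, 2), (13, 18, 0), (13, 19, 0), (13, 20, 0), (14, 15, 0), (14, 16, 0), (14, 17, 0),
  (14, 18, 0), (14, 19, 1), (14, 20, 0), (15, 16, 0), (15, 17, 0), (15, 18, 0), (15, 19, 0), (15, 20, 1),
  (16, 17, 0), (16, 18, 1), (16, 19, 0), (16, 20, 0), (17, 18, 0), (17, 19, 0), (17, 20, 0), (18, 19, 0),
  (18, 20, 0), (19, 20, 0)]
  | 2 => [
  (0, 1, 2), (0, 1, 3), (0, 1, 4), (0, 1, 5), (0, 1, 6), (0, 1, 7), (0, 1, 8), (0, 1, 10),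
  (0, 1, 11), (0, 1, 12), (0, 1, 14), (0, 1, 15), (0, 1, 16), (0, 1, 18), (0, 1, 19), (0, 1, 20),
  (0, 2, 3), (0, 2, 4), (0, 2, 5), (0, 2, 9), (0, 2, 10), (0, 2, 11), (0, 2, 12), (0, 2, 13),
  (0, 2, 14), (0, 2, 15), (0, 2, 16), (0, 2, 17), (0, 2, 18), (0, 2, 19), (0, 2, 20), (0, 3, 4),
  (0, 3, 5), (0, 3, 6), (0, 3, 7), (0, 3, 8), (0, 3, 9), (0, 3, 11), (0, 3, 12), (0, 3, 13),
  (0, 3, 14), (0, 3, 16), (0, 3, 17), (0, 3, 18), (0, 3, 19), (0, 4, 5), (0, 4, 6), (0, 4, 7),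
  (0, 4, 8), (0, 4, 9), (0, 4, 10), (0, 4, 12), (0, 4, 13), (0, 4, 14), (0, 4, 15), (0, 4, 17),
  (0, 4, 19), (0, 4, 20), (0, 5, 6), (0, 5, 7), (0, 5, 8), (0, 5, 9), (0, 5, 10), (0, 5, 11),
  (0, 5, 13), (0, 5, 15), (0, 5, 16), (0, 5, 17), (0, 5, 18), (0, 5, 20), (0, 6, 9), (0, 6, 10),
  (0, 6, 11), (0, 6, 12), (0, 6, 13), (0, 6, 14), (0, 6, 15), (0, 6, 16), (0, 6, 17), (0, 6, 18),
  (0, 6, 19), (0, 6, 20), (0, 7, 9), (0, 7, 10), (0, 7, 11), (0, 7, 12), (0, 7, 13), (0, 7, 14),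
  (0, 7, 15), (0, 7, 16), (0, 7, 17), (0, 7, 18), (0, 7, 19), (0, 7, 20), (0, 8, 9), (0, 8, 10),
  (0, 8, 11), (0, 8, 12), (0, 8, 13), (0, 8, 14), (0, 8, 15), (0, 8, 16), (0, 8, 17), (0, 8, 18),
  (0, 8, 19), (0, 8, 20), (0, 9, 10), (0, 9, 11), (0, 9, 12), (0, 9, 14), (0, 9, 15), (0, 9, 16),
  (0, 9, 18), (0, 9, 19), (0, 9, 20), (0, 10, 11), (0, 10, 12), (0, 10, 13), (0, 10, 14), (0, 10, 16),
  (0, 10, 17), (0, 10, 18), (0, 10, 19), (0, 11, 12), (0, 11, 13), (0, 11, 14), (0, 11, 15), (0, 11, 17),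
  (0, 11, 19), (0, 11, 20), (0, 12, 13), (0, 12, 15), (0, 12, 16), (0, 12, 17), (0, 12, 18), (0, 12, 20),
  (0, 13, 14), (0, 13, 15), (0, 13, 16), (0, 13, 18), (0, 13, 19), (0, 13, 20), (0, 14, 15), (0, 14, 16),
  (0, 14, 17), (0, 14, 18), (0, 14, 20), (0, 15, 16), (0, 15, 17), (0, 15, 18), (0, 15, 19), (0, 16, 17),
  (0, 16, 19), (0, 16, 20), (0, 17, 18), (0, 17, 19), (0, 17, 20), (0, 18, 19), (0, 18, 20), (0, 19, 20),
  (1, 2, 6), (1, 2, 7), (1, 2, 8), (1, 2, 9), (1, 2, 13), (1, 2, 17), (1, 3, 9), (1, 3, 10),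
  (1, 3, 13), (1, 3, 15), (1, 3, 17), (1, 3, 20), (1, 4, 9), (1, 4, 11), (1, 4, 13), (1, 4, 16),
  (1, 4, 17), (1, 4, 18), (1, 5, 9), (1, 5, 12), (1, 5, 13), (1, 5, 14), (1, 5, 17), (1, 5, 19),
  (1, 6, 7), (1, 6, 8), (1, 6, 9), (1, 6, 13), (1, 6, 17), (1, 7, 8), (1, 7, 9), (1, 7, 13),
  (1, 7, 17), (1, 8, 9), (1, 8, 13), (1, 8, 17), (1, 9, 10), (1, 9, 11), (1, 9, 12), (1, 9, 14),
  (1, 9, 15), (1, 9, 16), (1, 9, 18), (1, 9, 19), (1, 9, 20), (1, 10, 13), (1, 10, 15), (1, 10, 17),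
  (1, 10, 20), (1, 11, 13), (1, 11, 16), (1, 11, 17), (1, 11, 18), (1, 12, 13), (1, 12, 14), (1, 12, 17),
  (1, 12, 19), (1, 13, 14), (1, 13, 15), (1, 13, 16), (1, 13, 18), (1, 13, 19), (1, 13, 20), (1, 14, 17),
  (1, 14, 19), (1, 15, 17), (1, 15, 20), (1, 16, 17), (1, 16, 18), (1, 17, 18), (1, 17, 19), (1, 17, 20),
  (2, 3, 6), (2, 3, 7), (2, 3, 8), (2, 3, 10), (2, 3, 15), (2, 3, 20), (2, 4, 6), (2, 4, 7),
  (2, 4, 8), (2, 4, 11), (2, 4, 16), (2, 4, 18), (2, 5, 6), (2, 5, 7), (2, 5, 8), (2, 5, 12),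
  (2, 5, 14), (2, 5, 19), (2, 6, 10), (2, 6, 14), (2, 6, 18), (2, 7, 11), (2, 7, 15), (2, 7, 19),
  (2, 8, 12), (2, 8, 16), (2, 8, 20), (2, 9, 13), (2, 9, 17), (2, 13, 17), (3, 4, 10), (3, 4, 11),
  (3, 4, 15), (3, 4, 16), (3, 4, 18), (3, 4, 20), (3, 5, 10), (3, 5, 12), (3, 5, 14), (3, 5, 15),
  (3, 5, 19), (3, 5, 20), (4, 5, 11), (4, 5, 12), (4, 5, 14), (4, 5, 16), (4, 5, 18), (4, 5, 19)]

/-- The code of the form represented by a triple in a class. -/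
def ccode (k : Fin 3) (t : Fin 21 × Fin 21 × Fin 21) : ℕ :=
  match k with
  | 0 => code (pts t.1)
  | 1 => code (pts t.1) ^^^ code (pts t.2.1)
  | 2 => code (pts t.1) ^^^ code (pts t.2.1) ^^^ code (pts t.2.2)

/-- All codes, class after class. -/
def allCodes : List ℕ := (cls 0).map (ccode 0) ++ (cls 1).map (ccode 1) ++ (cls 2).map (ccode 2)

theorem cls_length : (cls 0).length = 21 ∧ (cls 1).length = 210 ∧ (cls 2).length = 280 := by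
  decide +kernel

theorem cls_det : ∀ k, ∀ t ∈ cls k, det4 (pts t.1) (pts t.2.1) (pts t.2.2) ≠ 0 := by
  decide +kernel

theorem allCodes_cover : ∀ n ∈ List.range 512, n ≠ 0 → n ∈ allCodes := by
  decide +kernel

theorem allCodes_length : allCodes.length = 511 := by
  decide +kernel

theorem allCodes_nodup : allCodes.Nodup := by
  have hsub : List.range' 1 511 ⊆ allCodes := fun n hn => by
    obtain ⟨h1, h2⟩ := List.mem_range'_1.1 hn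
    exact allCodes_cover n (List.mem_range.2 (by omega)) (by omega)
  exact ((List.nodup_range' (s := 1) (n := 511)).subperm hsub).perm_of_length_le
    (by rw [allCodes_length, List.length_range']) |>.nodup_iff.1 List.nodup_range'

theorem code_lt : ∀ i, code (pts i) < 512 := by
  decide +kernel

end CfsgLib.SixPlane
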