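import Cfsg.Agent.SixPlane.Space
import Cfsg.Agent.SixPlane.Tables

/-!
The group fixing the plane pointwise: its 511 non-trivial elements fall into three classes under the stabiliser.
-/

set_option autoImplicit false
set_option linter.unusedSectionVars false
set_option linter.style.haveILetI false

namespace CfsgLib.SixPlane

open Matrix CfsgLib.Unitary CfsgLib.ThreeT CfsgLib.ThreeT.SixTwo

/-- Two bits as a field element number. -/
def bt : Bool → Bool → Fin 4
  | false, false => 0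
  | true, false => 1
  | false, true => 2
  | true, true => 3

/-- Squaring in the field of four elements. -/
def sq4 (x : Fin 4) : Fin 4 := mul4 x x

/-- The entries of a code. -/
def dec4 (n : ℕ) : Fin 3 → Fin 3 → Fin 4 :=
  ![![bt (n.testBit 0) false, bt (n.testBit 3) (n.testBit 4), bt (n.testBit 5) (n.testBit 6)],
    ![sq4 (bt (n.testBit 3) (n.testBit 4)), bt (n.testBit 1) false, bt (n.testBit 7) (n.testBit 8)],
    ![sq4 (bt (n.testBit 5) (n.testBit 6)), sq4 (bt (n.testBit 7) (n.testBit 8)), bt (n.testBit 2) false]]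

theorem dec4_code : ∀ i k j, dec4 (code (pts i)) k j = entry4 (pts i) k j := by decide +kernel

theorem dec4_xor (n m : ℕ) (k j : Fin 3) : dec4 (n ^^^ m) k j = add4 (dec4 n k j) (dec4 m k j) := by
  have h1 : ∀ a b c d, bt (a ^^ c) (b ^^ d) = add4 (bt a b) (bt c d) := by decide
  have h2 : ∀ a b, sq4 (add4 a b) = add4 (sq4 a) (sq4 b) := by decide
  have h3 : ∀ a c, bt (a ^^ c) false = add4 (bt a false) (bt c false) := by decide
  fin_cases k <;> fin_cases j <;> simp [dec4, Nat.testBit_xor, h1, h2, h3, -Nat.testBit_zero]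

theorem dec4_inj : ∀ n m : Fin 512, (∀ k j, dec4 n k j = dec4 m k j) → n = m := by
  have h : ∀ n : Fin 512, (dec4 n 0 0).val + 2 * (dec4 n 1 1).val + 4 * (dec4 n 2 2).val +
      8 * (dec4 n 0 1).val + 32 * (dec4 n 0 2).val + 128 * (dec4 n 1 2).val = n.val := by decide +kernel
  intro n m e
  have := h n
  simp only [e, h m] at this
  exact Fin.ext this.symm

theorem dec4_surj : ∀ a b c : Fin 4, a.val < 2 → b.val < 2 → c.val < 2 → ∀ x y z : Fin 4,
    ∃ n : Fin 512, dec4 n 0 0 = a ∧ dec4 n 1 1 = b ∧ dec4 n 2 2 = c ∧ dec4 n 0 1 = x ∧ dec4 n 0 2 = y ∧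
      dec4 n 1 2 = z ∧ dec4 n 1 0 = sq4 x ∧ dec4 n 2 0 = sq4 y ∧ dec4 n 2 1 = sq4 z := by
  have h : ∀ a b c x y z : Fin 4, a.val < 2 → b.val < 2 → c.val < 2 →
      let n := a.val + 2 * b.val + 4 * c.val + 8 * x.val + 32 * y.val + 128 * z.val
      n < 512 ∧ dec4 n 0 0 = a ∧ dec4 n 1 1 = b ∧ dec4 n 2 2 = c ∧ dec4 n 0 1 = x ∧ dec4 n 0 2 = y ∧
      dec4 n 1 2 = z ∧ dec4 n 1 0 = sq4 x ∧ dec4 n 2 0 = sq4 y ∧ dec4 n 2 1 = sq4 z := by decide +kernel
  intro a b c ha hb hc x y z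
  obtain ⟨hn, h'⟩ := h a b c x y z ha hb hc
  exact ⟨⟨_, hn⟩, h'⟩

theorem dec4_zero : ∀ k j, dec4 0 k j = 0 := by decide

theorem ccode_lt : ∀ k t, ccode k t < 512 := by
  intro k t
  have : ∀ i, code (pts i) < 2 ^ 9 := code_lt
  match k with
  | 0 => exact this _
  | 1 => exact Nat.xor_lt_two_pow (this _) (this _)
  | 2 => exact Nat.xor_lt_two_pow (Nat.xor_lt_two_pow (this _) (this _)) (this _)

section

variable {F : Type} [Field F] (ω : F)

/-- The element with a given number. -/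
def enc : Fin 4 → F := ![0, 1, ω, ω + 1]

/-- The matrix of a code. -/
def hmat (n : ℕ) : Matrix (Fin 3) (Fin 3) F := Matrix.of fun k j => enc ω (dec4 n k j)

/-- The vector of a point. -/
def vec (i : Fin 21) : Fin 3 → F := fun k => enc ω (pts i k)

/-- The vectors of a triple of points. -/
def tri (t : Fin 21 × Fin 21 × Fin 21) : Fin 3 → Fin 3 → F := ![vec ω t.1, vec ω t.2.1, vec ω t.2.2]

end

variable {F : Type} [Field F] [CharP F 2] [Finite F] (hF : Nat.card F = 2 ^ 2) {ω : F}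
  (hω : ω ^ 2 = ω + 1)

include hω

theorem omega_ne : ω ≠ 0 ∧ ω ≠ 1 :=
  ⟨fun e => zero_ne_one (α := F) (by simp [e] at hω),
    fun e => one_ne_zero (α := F) (by rw [e, one_pow] at hω; linear_combination hω.symm)⟩

theorem enc_add (a b : Fin 4) : enc ω (add4 a b) = enc ω a + enc ω b := by
  have e2 : (2 : F) = 0 := CharTwo.two_eq_zero
  fin_cases a <;> fin_cases b <;> simp [enc, add4, CharTwo.add_self_eq_zero] <;> grind

theorem enc_mul (a b : Fin 4) : enc ω (mul4 a b) = enc ω a * enc ω b := by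
  have e2 : (2 : F) = 0 := CharTwo.two_eq_zero
  fin_cases a <;> fin_cases b <;> simp [enc, mul4] <;> grind

theorem enc_injective : Function.Injective (enc ω) := by
  obtain ⟨h0, h1⟩ := omega_ne hω
  have e2 : (2 : F) = 0 := CharTwo.two_eq_zero
  intro a b e
  fin_cases a <;> fin_cases b <;> simp [enc] at e ⊢ <;> grind

theorem enc_sq (a : Fin 4) : enc ω (sq4 a) = enc ω a ^ 2 := by rw [sq4, enc_mul hω, pow_two]

theorem hmat_xor (n m : ℕ) : hmat ω (n ^^^ m) = hmat ω n + hmat ω m := by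
  ext k j
  simp [hmat, dec4_xor, enc_add hω]

theorem hmat_code (i : Fin 21) : hmat ω (code (pts i)) = Matrix.of fun k j => vec ω i k * vec ω i j ^ 2 := by
  ext k j
  simp [hmat, dec4_code, entry4, vec, enc_mul hω, pow_two]

theorem hmat_inj {n m : ℕ} (hn : n < 512) (hm : m < 512) (e : hmat ω n = hmat ω m) : n = m :=
  congrArg Fin.val (dec4_inj ⟨n, hn⟩ ⟨m, hm⟩ fun k j => enc_injective hω (congrFun (congrFun e k) j))

theorem hmat_zero : hmat ω 0 = 0 := by ext k j; simp [hmat, dec4_zero, enc]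

theorem vec_zero : vec ω 0 = Pi.single 0 1 ∧ vec ω 1 = Pi.single 1 1 ∧ vec ω 2 = Pi.single 2 1 := by
  refine ⟨?_, ?_, ?_⟩ <;> funext k <;> fin_cases k <;> simp [vec, pts, enc]

include hF

theorem enc_surjective : Function.Surjective (enc ω) := by
  haveI := Fintype.ofFinite F
  exact ((Fintype.bijective_iff_injective_and_card (enc ω)).2 ⟨enc_injective hω, by
    rw [Fintype.card_fin, ← Nat.card_eq_fintype_card, hF]; rfl⟩).2

theorem tri_indep {k : Fin 3} {t : Fin 21 × Fin 21 × Fin 21} (ht : t ∈ cls k) :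
    LinearIndependent F (tri ω t) := by
  have h : (Matrix.of (tri ω t)).det = enc ω (det4 (pts t.1) (pts t.2.1) (pts t.2.2)) := by
    rw [Matrix.det_fin_three]
    simp only [det4, enc_add hω, enc_mul hω, Matrix.of_apply, tri, vec, Matrix.cons_val, Fin.isValue]
    simp only [sub_eq_add_neg, CharTwo.neg_eq]
    ring
  have hne : (Matrix.of (tri ω t)).det ≠ 0 := by
    rw [h]
    exact fun e => cls_det k t ht (enc_injective hω (by rw [e]; rfl))
  exact Matrix.linearIndependent_rows_of_det_ne_zero hne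

/-- Every element fixing the plane pointwise has a code. -/
theorem exists_code {g : Cfsg.SU 6 F 2} (hg : g ∈ fixPlane) : ∃ n < 512, IsTr g (hmat ω n) := by
  obtain ⟨Φ, hΦ⟩ := exists_isTr hF hg
  have hh := hΦ.herm hF
  have hdiag : ∀ k, ∃ a : Fin 4, a.val < 2 ∧ enc ω a = Φ k k := fun k => by
    have : Φ k k * (Φ k k - 1) = 0 := by linear_combination -hh k k
    rcases mul_eq_zero.1 this with h | h
    · exact ⟨0, by decide, by rw [h]; rfl⟩
    · exact ⟨1, by decide, by rw [sub_eq_zero.1 h]; rfl⟩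
  obtain ⟨a, ha, ea⟩ := hdiag 0
  obtain ⟨b, hb, eb⟩ := hdiag 1
  obtain ⟨c, hc, ec⟩ := hdiag 2
  obtain ⟨x, ex⟩ := enc_surjective hF hω (Φ 0 1)
  obtain ⟨y, ey⟩ := enc_surjective hF hω (Φ 0 2)
  obtain ⟨z, ez⟩ := enc_surjective hF hω (Φ 1 2)
  obtain ⟨n, n00, n11, n22, n01, n02, n12, n10, n20, n21⟩ := dec4_surj a b c ha hb hc x y z
  refine ⟨n, n.2, ?_⟩
  have : hmat ω n = Φ := by
    ext k j
    fin_cases k <;> fin_cases j <;>
      simp [hmat, n00, n11, n22, n01, n02, n12, n10, n20, n21, enc_sq hω, ea, eb, ec, ex, ey, ez, ← hh]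
  rwa [this]

/-- The element of a class given by a triple. -/
noncomputable def cel (k : Fin 3) (t : Fin 3 → Fin 3 → F) : Cfsg.SU 6 F 2 :=
  match k with
  | 0 => tv hF (emb (t 0))
  | 1 => tv hF (emb (t 0)) * tv hF (emb (t 1))
  | 2 => tv hF (emb (t 0)) * tv hF (emb (t 1)) * tv hF (emb (t 2))

theorem cel_code (k : Fin 3) (t : Fin 21 × Fin 21 × Fin 21) :
    IsTr (cel hF k (tri ω t)) (hmat ω (ccode k t)) := by
  have h : ∀ i, IsTr (tv hF (emb (vec ω i))) (hmat ω (code (pts i))) := fun i => by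
    rw [hmat_code hω]; exact isTr_tv hF _
  match k with
  | 0 => exact h _
  | 1 => show IsTr _ (hmat ω (_ ^^^ _)); rw [hmat_xor hω]; exact (h _).mul (h _)
  | 2 => show IsTr _ (hmat ω (_ ^^^ _ ^^^ _)); rw [hmat_xor hω, hmat_xor hω]; exact ((h _).mul (h _)).mul (h _)

theorem exists_class {g : Cfsg.SU 6 F 2} (hg : g ∈ fixPlane) (h1 : g ≠ 1) :
    ∃ k, ∃ t ∈ cls k, g = cel hF k (tri ω t) := by
  obtain ⟨n, hn, hgn⟩ := exists_code hF hω hg
  have h0 : n ≠ 0 := fun e => h1 (hgn.eq (by rw [e, hmat_zero hω]; exact IsTr.one))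
  have := allCodes_cover n (List.mem_range.2 hn) h0
  simp only [allCodes, List.mem_append, List.mem_map] at this
  rcases this with (⟨t, ht, rfl⟩ | ⟨t, ht, rfl⟩) | ⟨t, ht, rfl⟩ <;>
    exact ⟨_, t, ht, hgn.eq (cel_code hF hω _ t)⟩

theorem code_qel (n : ℕ) (hn : n < 512) : ∃ g : Cfsg.SU 6 F 2, IsTr g (hmat ω n) := by
  rcases eq_or_ne n 0 with rfl | h0
  · exact ⟨1, by rw [hmat_zero hω]; exact IsTr.one⟩
  have := allCodes_cover n (List.mem_range.2 hn) h0
  simp only [allCodes, List.mem_append, List.mem_map] at this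
  rcases this with (⟨t, -, rfl⟩ | ⟨t, -, rfl⟩) | ⟨t, -, rfl⟩ <;> exact ⟨_, cel_code hF hω _ t⟩

theorem card_fixPlane : Nat.card ↥(fixPlane (F := F)) = 512 := by
  choose e he using fun n : Fin 512 => code_qel hF hω n n.2
  refine (Nat.card_eq_of_bijective (fun n => (⟨e n, (he n).mem⟩ : ↥(fixPlane (F := F)))) ⟨fun n m h => ?_,
    fun g => ?_⟩).symm.trans (Nat.card_fin 512)
  · refine Fin.ext (hmat_inj hω n.2 m.2 ((he n).unique ?_))
    rw [show e n = e m from congrArg Subtype.val h]; exact he m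
  · obtain ⟨n, hn, hgn⟩ := exists_code hF hω g.2
    exact ⟨⟨n, hn⟩, Subtype.ext ((he ⟨n, hn⟩).eq hgn)⟩

/-- The stabiliser is transitive on each class. -/
theorem class_trans {k : Fin 3} {t : Fin 21 × Fin 21 × Fin 21} (ht : t ∈ cls k) :
    ∃ g ∈ stabPlane (F := F), g * cel hF k (fun i => Pi.single i 1) * g⁻¹ = cel hF k (tri ω t) := by
  obtain ⟨g, l, hl, hg⟩ := exists_move hF (fun i => emb (tri ω t i))
    ((tri_indep hF hω ht).map' emb (LinearMap.ker_eq_bot.2 emb_injective)) fun i j => hh_emb_emb _ _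
  refine ⟨g, mem_stabPlane.2 fun a => ⟨∑ i, a i • (l i • tri ω t i), ?_⟩, ?_⟩
  · conv_lhs => rw [pi_eq_sum_univ' a]
    simp only [map_sum, map_smul, Matrix.mulVec_sum, Matrix.mulVec_smul, hg]
  have key : ∀ i, g * tv hF (emb (Pi.single i 1)) * g⁻¹ = tv hF (emb (tri ω t i)) := fun i => by
    rw [tv_conj hF g (hh_emb_emb _ _), hg i, tv_smul hF (hh_emb_emb _ _) (hl i)]
  match k with
  | 0 => exact key 0
  | 1 => simp only [cel, conj_mul.symm, key]
  | 2 => simp only [cel, conj_mul.symm, key]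

end CfsgLib.SixPlane
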