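import Cfsg.Agent.SixPlane.Lifts

/-!
A canonical element of `A₀`: the only non-trivial double commutator with the derived group of the Sylow subgroup.
-/

set_option autoImplicit false
set_option linter.unusedSectionVars false
set_option linter.style.haveILetI false

namespace CfsgLib.SixPlane

open Matrix CfsgLib.Unitary CfsgLib.ThreeT CfsgLib.ThreeT.SixTwo
open scoped commutatorElement

variable {F : Type} [Field F] [CharP F 2] [Finite F] (hF : Nat.card F = 2 ^ 2) {ω : F}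
  (hω : ω ^ 2 = ω + 1) {C : Type*} [Group C] [Finite C]

local notation "hh" => Cfsg.hermForm 6 F 2
local notation "π" => QuotientGroup.mk' (Subgroup.center (Cfsg.SU 6 F 2))

attribute [local irreducible] flagCo

/-- A product of four values along a coset of a group of order four. -/
theorem four_prod {M : Type*} [CommGroup M] (f : Fin 4 → M) (h2 : ∀ i, f i * f i = 1) (a i j : Fin 4) :
    f a * f (add4 a i) * f (add4 a j) * f (add4 a (add4 i j)) = 1 ∨
      f a * f (add4 a i) * f (add4 a j) * f (add4 a (add4 i j)) = f 0 * f 1 * f 2 * f 3 := by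
  have h4 : ∀ x y, f x * f y * f x * f y = 1 := fun x y => by
    rw [show f x * f y * f x * f y = (f x * f x) * (f y * f y) by ac_rfl, h2, h2, one_mul]
  have hl : ∀ x y, f x * f x * f y * f y = 1 := fun x y => by rw [h2, one_mul, h2]
  have hr : ∀ x y, f x * f y * f y * f x = 1 := fun x y => by rw [mul_assoc (f x), h2, mul_one, h2]
  fin_cases a <;> fin_cases i <;> fin_cases j <;>
    simp only [add4, Fin.isValue, Matrix.cons_val, Fin.mk_one, Fin.reduceFinMk, Fin.zero_eta] <;>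
    first
      | exact Or.inl (h4 _ _)
      | exact Or.inl (hl _ _)
      | exact Or.inl (hr _ _)
      | (right; trivial)
      | (right; generalize f 0 = p; generalize f 1 = q; generalize f 2 = u; generalize f 3 = v; ac_rfl)

theorem flagCo_one (h : Nat.card F = 2 ^ 2) : flagCo (1 : ↥(flag (F := F))) = 0 := add_eq_left.1 (by
  rw [← flagCo_mul h (1 : ↥(flag (F := F))) 1, mul_one])

theorem flagCo_inv (h : Nat.card F = 2 ^ 2) (u : ↥(flag (F := F))) : flagCo u⁻¹ = -flagCo u := by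
  have := flagCo_mul h u u⁻¹
  rw [mul_inv_cancel, flagCo_one h] at this
  exact eq_neg_of_add_eq_zero_right this.symm

/-- The flag elements with vanishing coordinates. -/
noncomputable def flagKer : Subgroup (Cfsg.SU 6 F 2) where
  carrier := {g | ∃ h : g ∈ flag (F := F), flagCo ⟨g, h⟩ = 0}
  one_mem' := ⟨one_mem _, flagCo_one hF⟩
  mul_mem' := by
    rintro g g' ⟨h, e⟩ ⟨h', e'⟩
    refine ⟨mul_mem h h', ?_⟩
    have := flagCo_mul hF (⟨g, h⟩ : ↥(flag (F := F))) ⟨g', h'⟩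
    rw [e, e', add_zero] at this
    exact this
  inv_mem' := by
    rintro g ⟨h, e⟩
    refine ⟨inv_mem h, ?_⟩
    have := flagCo_inv hF (⟨g, h⟩ : ↥(flag (F := F)))
    rw [e, neg_zero] at this
    exact this

theorem commutator_mem_flagKer {g g' : Cfsg.SU 6 F 2} (hg : g ∈ flag (F := F))
    (hg' : g' ∈ flag (F := F)) : ⁅g, g'⁆ ∈ flagKer hF := by
  rw [commutatorElement_def]
  refine ⟨mul_mem (mul_mem (mul_mem hg hg') (inv_mem hg)) (inv_mem hg'), ?_⟩
  show flagCo ((⟨g, hg⟩ : ↥(flag (F := F))) * ⟨g', hg'⟩ * (⟨g, hg⟩ : ↥(flag (F := F)))⁻¹ *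
    (⟨g', hg'⟩ : ↥(flag (F := F)))⁻¹) = 0
  rw [flagCo_mul hF, flagCo_mul hF, flagCo_mul hF, flagCo_inv hF, flagCo_inv hF]
  abel

namespace Cov

variable (K : Cov F C)

include hF hω

theorem derived_image {r : C} (hr : r ∈ ⁅K.syl, K.syl⁆) :
    ∃ q ∈ fixPlane (F := F), ∃ b, K.φ r = π (q * l2 hF ω b 0) := by
  have hle : ⁅K.syl, K.syl⁆ ≤ ((flagKer hF).map π).comap K.φ := by
    rw [Subgroup.commutator_le]
    intro x hx y hy
    obtain ⟨g, hg, eg⟩ := hx
    obtain ⟨g', hg', eg'⟩ := hy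
    exact ⟨⁅g, g'⁆, commutator_mem_flagKer hF hg hg', by
      rw [map_commutatorElement, map_commutatorElement, eg, eg']⟩
  obtain ⟨g, ⟨hg, hg0⟩, eg⟩ := hle hr
  obtain ⟨a, b, c, q, hq, rfl⟩ := flag_decomp hF hω hg
  obtain ⟨g0, g1, g2, -⟩ := e12_bu hF hω a
  obtain ⟨h0, h1, h2⟩ := l2_bu hF hω b c
  have qf : ∀ i, suMat q *ᵥ bu i = bu i := fun i => hq _
  have key := flagCo_eq hF (g := ⟨_, hg⟩) (A := a ^ 2) (B := b ^ 2 + c ^ 2 * a ^ 2) (C := c ^ 2)
    (by rw [suMat_mul, suMat_mul, ← Matrix.mulVec_mulVec, ← Matrix.mulVec_mulVec, h1, g1]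
        simp only [Matrix.mulVec_add, Matrix.mulVec_smul, qf])
    (by rw [suMat_mul, suMat_mul, ← Matrix.mulVec_mulVec, ← Matrix.mulVec_mulVec, h2]
        simp only [Matrix.mulVec_add, Matrix.mulVec_smul, g0, g1, g2, qf]
        module)
  rw [hg0] at key
  obtain ⟨ka, kc⟩ := Prod.mk.inj key.symm
  obtain rfl := eq_zero_of_pow_eq_zero ka
  obtain rfl := eq_zero_of_pow_eq_zero kc
  refine ⟨q, hq, b, ?_⟩
  rw [← eg, show e12 hF ω (0 : F) = 1 from
    (mul_eq_left (a := e12 hF ω (0 : F))).1 (by rw [← e12_add hF hω, add_zero]), one_mul]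

/-- The canonical element. -/
theorem exists_witness : ∃ w ∈ K.base, w ≠ 1 ∧ w ≠ K.z ∧ (∀ s ∈ K.syl, s * w * s⁻¹ = w) ∧
    (∀ h ∈ K.base, ∀ r ∈ ⁅K.syl, K.syl⁆, ∀ r' ∈ ⁅K.syl, K.syl⁆, ⁅⁅h, r⁆, r'⁆ = 1 ∨ ⁅⁅h, r⁆, r'⁆ = w) ∧
    ∃ h ∈ K.base, ∃ r ∈ ⁅K.syl, K.syl⁆, ∃ r' ∈ ⁅K.syl, K.syl⁆, ⁅⁅h, r⁆, r'⁆ = w := by
  classical
  obtain ⟨hcomm, hsq⟩ := K.base_elementary hF hω
  letI : CommGroup ↥K.base :=
    { (inferInstance : Group ↥K.base) with mul_comm := fun a b => Subtype.ext (hcomm _ a.2 _ b.2) }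
  obtain ⟨k₀, hk₀⟩ := K.surj (π (tv hF (bu 0)))
  have hkk : ∀ a, K.kk hF k₀ (emb a) ∈ K.base := fun a => by
    by_cases ha : a = 0
    · refine ⟨1, one_mem _, ?_⟩
      rw [map_one, ha, map_zero, K.kk_zero_image hF k₀]
    · exact ⟨_, (isTr_tv hF a).mem, (K.kk_spec hF hk₀ (isPt_emb ha)).image.symm⟩
  let pt : F → Fin 4 → (Fin 3 → F) := fun y i => ![enc ω i, y, 1]
  have hpt : ∀ y i, pt y i ≠ 0 := fun y i e => one_ne_zero (α := F) (by simpa [pt] using congrFun e 2)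
  let L : F → ↥K.base := fun y =>
    ⟨_, hkk (pt y 0)⟩ * ⟨_, hkk (pt y 1)⟩ * ⟨_, hkk (pt y 2)⟩ * ⟨_, hkk (pt y 3)⟩
  set w : C := (L 0 : C) with hw
  have hLw : (w : C) = K.kk hF k₀ (emb (pt 0 0)) * K.kk hF k₀ (emb (pt 0 1)) * K.kk hF k₀ (emb (pt 0 2)) *
      K.kk hF k₀ (emb (pt 0 3)) := rfl
  have hwimg : K.φ w = π (tv hF (bu 0)) := by
    rw [hLw]
    simp only [map_mul, (K.kk_spec hF hk₀ (isPt_emb (hpt 0 _))).image]
    rw [← map_mul, ← map_mul, ← map_mul]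
    congr 1
    have hsum : IsTr (tv hF (emb (pt 0 0)) * tv hF (emb (pt 0 1)) * tv hF (emb (pt 0 2)) * tv hF (emb (pt 0 3)))
        (Matrix.of fun k j : Fin 3 => (Pi.single 0 1 : Fin 3 → F) k * (Pi.single 0 1 : Fin 3 → F) j ^ 2) := by
      have h := (((isTr_tv hF (pt 0 0)).mul (isTr_tv hF (pt 0 1))).mul (isTr_tv hF (pt 0 2))).mul (isTr_tv hF (pt 0 3))
      convert h using 1
      have e2 : (2 : F) = 0 := CharTwo.two_eq_zero
      ext k j
      fin_cases k <;> fin_cases j <;> simp [pt, enc] <;> grind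
    exact hsum.eq (isTr_tv hF _)
  have hb0 : IsPt (bu (F := F) 0) := isPt_emb fun e => one_ne_zero (α := F) (by simpa using congrFun e 0)
  have hw1 : w ≠ 1 := fun e => pi_tv_ne_one hF hb0 (by rw [← hwimg, e, map_one])
  have hwz : w ≠ K.z := fun e => pi_tv_ne_one hF hb0 (by rw [← hwimg, e, K.phi_z])
  have hfix : ∀ (s : C) (g : Cfsg.SU 6 F 2), K.φ s = π g → suMat g *ᵥ bu 0 = bu 0 → s * w * s⁻¹ = w := by
    intro s g hs hg
    have hk : s * k₀ * s⁻¹ = k₀ := by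
      have := K.kk_conj hF hω hk₀ hs hb0
      rwa [hg, K.kk_base hF hω hk₀] at this
    rcases K.same_image (hk₀.trans hwimg.symm) with e | e
    · rw [e, hk]
    · rw [e, show s * (K.z * k₀) * s⁻¹ = (s * K.z * s⁻¹) * (s * k₀ * s⁻¹) by group, K.conj_z, hk]
  have hL : ∀ y, (L y : C) = w := by
    intro y
    obtain ⟨s, hs⟩ := K.surj (π (l2 hF ω 0 (y ^ 2)))
    obtain ⟨h0, h1, h2⟩ := l2_bu hF hω (0 : F) (y ^ 2)
    have hmove : ∀ i, s * K.kk hF k₀ (emb (pt 0 i)) * s⁻¹ = K.kk hF k₀ (emb (pt y i)) := fun i => by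
      rw [K.kk_conj hF hω hk₀ hs (isPt_emb (hpt 0 i))]
      congr 1
      rw [emb_expand, emb_expand (pt y i)]
      simp only [Matrix.mulVec_add, Matrix.mulVec_smul, h0, h1, h2, pt, Matrix.cons_val, quad hF]
      module
    rw [← hfix s _ hs h0, hLw]
    show K.kk hF k₀ (emb (pt y 0)) * K.kk hF k₀ (emb (pt y 1)) * K.kk hF k₀ (emb (pt y 2)) *
      K.kk hF k₀ (emb (pt y 3)) = _
    rw [← hmove, ← hmove, ← hmove, ← hmove]
    group
  have hbr : ∀ r ∈ ⁅K.syl, K.syl⁆, r ∈ K.stab := by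
    intro r hr
    have hle : ⁅K.syl, K.syl⁆ ≤ K.syl := Subgroup.commutator_le.2 fun a ha b hb => by
      rw [commutatorElement_def]; exact mul_mem (mul_mem (mul_mem ha hb) (inv_mem ha)) (inv_mem hb)
    exact K.syl_le hF (hle hr)
  have hD : ∀ h ∈ K.base, ∀ r ∈ ⁅K.syl, K.syl⁆, ∀ r' ∈ ⁅K.syl, K.syl⁆, ⁅⁅h, r⁆, r'⁆ =
      h * (r * h * r⁻¹) * (r' * h * r'⁻¹) * (r' * (r * h * r⁻¹) * r'⁻¹) := by
    intro h hh' r hr r' hr'
    have hi : ∀ u ∈ K.base, u⁻¹ = u := fun u hu => inv_eq_of_mul_eq_one_right (hsq u hu)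
    have e : ∀ u ∈ K.base, ∀ t ∈ K.stab, ⁅u, t⁆ = u * (t * u * t⁻¹) := fun u hu t _ => by
      rw [commutatorElement_def, hi u hu]; group
    have hk : h * (r * h * r⁻¹) ∈ K.base := mul_mem hh' (K.base_conj hF hh' (hbr r hr))
    rw [e h hh' r (hbr r hr), e _ hk r' (hbr r' hr')]
    group
  have hval : ∀ h ∈ K.base, ∀ r ∈ ⁅K.syl, K.syl⁆, ∀ r' ∈ ⁅K.syl, K.syl⁆,
      ⁅⁅h, r⁆, r'⁆ = 1 ∨ ⁅⁅h, r⁆, r'⁆ = w := by
    intro h hh' r hr r' hr'
    have hww : w * w = 1 := hsq w (L 0).2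
    let c : C → ↥K.base → ↥K.base := fun t u =>
      if ht : t ∈ K.stab then ⟨t * u * t⁻¹, K.base_conj hF u.2 ht⟩ else 1
    have hc : ∀ t ∈ K.stab, ∀ u : ↥K.base, (c t u : C) = t * u * t⁻¹ := fun t ht u => by
      simp only [c, dif_pos ht]
    have hcm : ∀ t ∈ K.stab, ∀ u v : ↥K.base, c t (u * v) = c t u * c t v := fun t ht u v => Subtype.ext (by
      rw [Subgroup.coe_mul, hc t ht, hc t ht, hc t ht, Subgroup.coe_mul]; group)
    let D : ↥K.base → ↥K.base := fun u => u * c r u * c r' u * c r' (c r u)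
    have hDc : ∀ u : ↥K.base, (D u : C) = ⁅⁅(u : C), r⁆, r'⁆ := fun u => by
      rw [hD u.1 u.2 r hr r' hr']
      simp only [D, Subgroup.coe_mul, hc r (hbr r hr), hc r' (hbr r' hr')]
    have hDm : ∀ u v, D (u * v) = D u * D v := fun u v => by
      simp only [D, hcm r (hbr r hr), hcm r' (hbr r' hr')]
      ac_rfl
    let Y : Subgroup C :=
      { carrier := {u | ∃ hu : u ∈ K.base, (D ⟨u, hu⟩ : C) = 1 ∨ (D ⟨u, hu⟩ : C) = w}
        one_mem' := ⟨one_mem _, Or.inl (by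
          rw [hDc, commutatorElement_one_left, commutatorElement_one_left])⟩
        mul_mem' := by
          rintro u v ⟨hu, eu⟩ ⟨hv, ev⟩
          refine ⟨mul_mem hu hv, ?_⟩
          rw [show (⟨u * v, mul_mem hu hv⟩ : ↥K.base) = ⟨u, hu⟩ * ⟨v, hv⟩ from rfl, hDm, Subgroup.coe_mul]
          rcases eu with eu | eu <;> rcases ev with ev | ev <;> rw [eu, ev] <;> simp [hww]
        inv_mem' := by
          rintro u ⟨hu, eu⟩
          refine ⟨inv_mem hu, ?_⟩
          simpa only [inv_eq_of_mul_eq_one_right (hsq u hu)] using eu }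
    suffices hY : K.base ≤ Y by
      obtain ⟨hu, e⟩ := hY hh'
      rwa [hDc] at e
    refine K.base_le_closure hF hω ⟨K.z_mem_base hF, Or.inl ?_⟩ fun a => ?_
    · rw [hDc]
      have : ⁅K.z, r⁆ = 1 := commutatorElement_eq_one_iff_commute.2 (K.central r)
      rw [this, commutatorElement_one_left]
    by_cases ha : a = 0
    · refine ⟨1, one_mem _, ?_⟩
      rw [map_one, ha, map_zero, show tv hF (0 : Fin 6 → F) = 1 from su_ext fun x => by
        rw [tv_apply hF (hh_zero_left hF 0), smul_zero, add_zero, suMat_one, Matrix.one_mulVec], map_one]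
    refine ⟨_, ⟨hkk a, ?_⟩, (K.kk_spec hF hk₀ (isPt_emb ha)).image⟩
    obtain ⟨q, hq, b, hb⟩ := K.derived_image hF hω hr
    obtain ⟨q', hq', b', hb'⟩ := K.derived_image hF hω hr'
    have hmv : ∀ (t : C) (p : Cfsg.SU 6 F 2) (β : F) (v : Fin 3 → F), p ∈ fixPlane → v ≠ 0 →
        K.φ t = π (p * l2 hF ω β 0) →
        t * K.kk hF k₀ (emb v) * t⁻¹ = K.kk hF k₀ (emb (v + (v 2 * β ^ 2) • Pi.single 0 1)) := by
      intro t p β v hp hv ht
      rw [K.kk_conj hF hω hk₀ ht (isPt_emb hv)]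
      congr 1
      obtain ⟨h0, h1, h2⟩ := l2_bu hF hω β (0 : F)
      have pf : ∀ i, suMat p *ᵥ bu i = bu i := fun i => hp _
      rw [suMat_mul, ← Matrix.mulVec_mulVec, map_add, map_smul, show emb (Pi.single 0 1) = bu (F := F) 0 from rfl,
        emb_expand v]
      simp only [Matrix.mulVec_add, Matrix.mulVec_smul, h0, h1, h2, pf]
      module
    set a' := a + (a 2 * b ^ 2) • (Pi.single 0 1 : Fin 3 → F) with ha'
    have ha'2 : a' 2 = a 2 := by simp [a']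
    have ha'0 : a' ≠ 0 := by
      intro e
      have e2 := congrFun e 2
      rw [ha'2] at e2
      refine ha (funext fun i => ?_)
      have := congrFun e i
      simp [a', e2] at this
      simpa using this
    rw [hDc, hD _ (hkk a) r hr r' hr', hmv r q b a hq ha hb, hmv r' q' b' a hq' ha hb',
      hmv r' q' b' a' hq' ha'0 hb', ha'2]
    by_cases h2 : a 2 = 0
    · left
      simp only [h2, zero_mul, zero_smul, add_zero, a']
      simp only [hsq _ (hkk a), one_mul]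
    obtain ⟨i, hi⟩ := enc_surjective hF hω (b ^ 2)
    obtain ⟨j, hj⟩ := enc_surjective hF hω (b' ^ 2)
    obtain ⟨x, hx⟩ := enc_surjective hF hω (a 0 / a 2)
    set y := a 1 / a 2
    have hscale : ∀ (v : Fin 3 → F) (t : Fin 4), v 2 = a 2 → v 1 = a 1 → v 0 = a 2 * enc ω t →
        K.kk hF k₀ (emb v) = K.kk hF k₀ (emb (pt y t)) := by
      intro v t e2 e1 e0
      have : v = a 2 • pt y t := by
        funext k
        fin_cases k <;> simp [pt, y, e0, e1, e2, mul_div_cancel₀ _ h2]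
      rw [this, map_smul, K.kk_smul hF hω hk₀ (isPt_emb (hpt y t)) h2]
    have hx' : a 0 = a 2 * enc ω x := by rw [hx, mul_div_cancel₀ _ h2]
    rw [hscale a x rfl rfl hx',
      hscale a' (add4 x i) ha'2 (by simp [a']) (by simp [a', enc_add hω, hi, hx']; ring),
      hscale (a + (a 2 * b' ^ 2) • (Pi.single 0 1 : Fin 3 → F)) (add4 x j) (by simp) (by simp) (by simp [enc_add hω, hj, hx']; ring),
      hscale (a' + (a 2 * b' ^ 2) • (Pi.single 0 1 : Fin 3 → F)) (add4 x (add4 i j)) (by simp [a']) (by simp [a'])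
        (by simp [a', enc_add hω, hi, hj, hx']; ring)]
    have h4 := four_prod (fun t => (⟨_, hkk (pt y t)⟩ : ↥K.base)) (fun t => Subtype.ext (hsq _ (hkk _))) x i j
    rcases h4 with e | e
    · exact Or.inl (congrArg Subtype.val e)
    · exact Or.inr ((congrArg Subtype.val e).trans (hL y))
  refine ⟨w, (L 0).2, hw1, hwz, fun s hs => ?_, hval, ?_⟩
  · obtain ⟨g, hg, eg⟩ := hs
    obtain ⟨A, B, C', a0, -, -⟩ := hg
    exact hfix s g eg.symm a0
  have hex : ∀ β : F, ∃ r ∈ ⁅K.syl, K.syl⁆, K.φ r = π (l2 hF ω β 0) := fun β => by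
    obtain ⟨x, hx⟩ := K.surj (π (e12 hF ω 1))
    obtain ⟨y, hy⟩ := K.surj (π (l2 hF ω 0 β))
    refine ⟨⁅x, y⁆, Subgroup.commutator_mem_commutator ⟨_, e12_mem hF hω 1, hx.symm⟩
      ⟨_, l2_mem hF hω 0 β, hy.symm⟩, ?_⟩
    rw [map_commutatorElement, hx, hy, ← map_commutatorElement, commutatorElement_def, e12_l2 hF hω,
      zero_add, one_mul]
    congr 1
    have hinv : (l2 hF ω 0 β)⁻¹ = l2 hF ω 0 β := inv_eq_of_mul_eq_one_right (by
      rw [← l2_add hF hω, add_zero, CharTwo.add_self_eq_zero]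
      exact (mul_eq_left (a := l2 hF ω (0 : F) 0)).1 (by rw [← l2_add hF hω, add_zero]))
    rw [hinv, ← l2_add hF hω, CharTwo.add_self_eq_zero, add_zero]
  obtain ⟨r, hr, er⟩ := hex 1
  obtain ⟨r', hr', er'⟩ := hex ω
  refine ⟨_, hkk (pt 0 0), r, hr, r', hr', ?_⟩
  have hmv : ∀ (t : C) (β : F) (i : Fin 4) (e : Fin 4), K.φ t = π (l2 hF ω β 0) → enc ω e = β ^ 2 →
      t * K.kk hF k₀ (emb (pt 0 i)) * t⁻¹ = K.kk hF k₀ (emb (pt 0 (add4 i e))) := by
    intro t β i e ht he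
    rw [K.kk_conj hF hω hk₀ ht (isPt_emb (hpt 0 i))]
    congr 1
    obtain ⟨h0, h1, h2⟩ := l2_bu hF hω β (0 : F)
    rw [emb_expand, emb_expand (pt 0 (add4 i e))]
    simp only [Matrix.mulVec_add, Matrix.mulVec_smul, h0, h1, h2, pt, Matrix.cons_val, enc_add hω, he]
    module
  have e1 : enc ω 1 = (1 : F) ^ 2 := by simp [enc]
  have e3 : enc ω 3 = ω ^ 2 := by simp [enc, hω]
  rw [hD _ (hkk _) r hr r' hr', hmv r 1 0 1 er e1, hmv r' ω 0 3 er' e3, hmv r' ω (add4 0 1) 3 er' e3]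
  rw [hLw, show add4 0 1 = 1 from rfl, show add4 0 3 = 3 from rfl, show add4 1 3 = 2 from rfl]
  rw [mul_assoc (K.kk hF k₀ (emb (pt 0 0)) * _), hcomm _ (hkk (pt 0 3)) _ (hkk (pt 0 2)), ← mul_assoc]

end Cov

end CfsgLib.SixPlane
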