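import Cfsg.Agent.SixPlane.NoSplit
import Cfsg.Agent.SixPlane.Witness
import Cfsg.Agent.Zassenhaus.SymplecticType

/-!
The conjugates of the central involution in `A₀` are 22 in number.
-/

set_option autoImplicit false
set_option linter.unusedSectionVars false
set_option linter.style.haveILetI false

namespace CfsgLib.SixPlane

open Matrix CfsgLib.Unitary CfsgLib.ThreeT CfsgLib.ThreeT.SixTwo
open scoped commutatorElement

variable {F : Type} [Field F] [CharP F 2] [Finite F] (hF : Nat.card F = 2 ^ 2) {ω : F}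
  (hω : ω ^ 2 = ω + 1)

local notation "π" => QuotientGroup.mk' (Subgroup.center (Cfsg.SU 6 F 2))

theorem zero_not_code : (0 : ℕ) ∉ allCodes := by decide +kernel

theorem count_cases (a b c : ℕ) (ha : a ≤ 2) (hb : b ≤ 2) (hc : c ≤ 2)
    (h : 20160 * (1 + 21 * a + 210 * b + 280 * c) ∣ ∏ i : Fin 10, (2 ^ 10 - 2 ^ (i : ℕ))) :
    (a = 0 ∧ b = 0 ∧ c = 0) ∨ (a = 1 ∧ b = 0 ∧ c = 0) ∨ (a = 0 ∧ b = 0 ∧ c = 2) ∨ (a = 1 ∧ b = 1 ∧ c = 1) ∨
      (a = 1 ∧ b = 1 ∧ c = 2) ∨ (a = 2 ∧ b = 2 ∧ c = 2) := by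
  norm_num [Fin.prod_univ_succ] at h
  interval_cases a <;> interval_cases b <;> interval_cases c <;> first | omega | norm_num at h

variable {G : Type*} [Group G] [Finite G] {d : G}
  (K : Cov F ↥(Subgroup.centralizer ({d} : Set G)))

/-- The conjugates of `d` in `A₀`, inside the centraliser. -/
def Cov.dConj : Set ↥(Subgroup.centralizer ({d} : Set G)) :=
  {x | x ∈ K.base ∧ IsConj d (x : G)}

/-- `A₀` inside the whole group. -/
def Cov.baseG : Subgroup G := K.base.map (Subgroup.centralizer ({d} : Set G)).subtype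

namespace Cov

theorem mem_baseG {x : G} : x ∈ K.baseG ↔ ∃ y ∈ K.base, (y : G) = x := Iff.rfl

variable (hz : (K.z : G) = d)

include hF hω hz

/-- The normaliser of `A₀` is transitive on the conjugates of `d` in it. -/
theorem transitive {x : G} (hx : x ∈ K.baseG) (hc : IsConj d x) :
    ∃ n ∈ Subgroup.normalizer (K.baseG : Set G), n * d * n⁻¹ = x := by
  obtain ⟨g, hg⟩ := isConj_iff.1 hc
  obtain ⟨hcomm, hsq⟩ := K.base_elementary hF hω
  set B' : Subgroup G := K.baseG.map (MulAut.conj g⁻¹).toMonoidHom with hB'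
  have hle : B' ≤ Subgroup.centralizer ({d} : Set G) := by
    rintro _ ⟨a, ⟨a', ha', rfl⟩, rfl⟩
    obtain ⟨x', hx', rfl⟩ := hx
    refine Subgroup.mem_centralizer_singleton_iff.2 ?_
    show g⁻¹ * (a' : G) * g⁻¹⁻¹ * d = d * (g⁻¹ * (a' : G) * g⁻¹⁻¹)
    have e : d = g⁻¹ * (x' : G) * g := by
      rw [show ((Subgroup.centralizer ({d} : Set G)).subtype x') = (x' : G) from rfl] at hg
      rw [← hg]; group
    have e' : (a' : G) * x' = x' * a' := congrArg Subtype.val (hcomm a' ha' x' hx')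
    generalize (a' : G) = p at e' ⊢
    rw [e, inv_inv, show g⁻¹ * p * g * (g⁻¹ * x' * g) = g⁻¹ * (p * x') * g by group, e']
    group
  set B := B'.subgroupOf (Subgroup.centralizer ({d} : Set G))
  have hcB : ∀ a ∈ B, ∀ b ∈ B, a * b = b * a := by
    rintro a ⟨_, ⟨a', ha', rfl⟩, ea⟩ b ⟨_, ⟨b', hb', rfl⟩, eb⟩
    refine Subtype.ext ?_
    change (MulAut.conj g⁻¹) (a' : G) = (a : G) at ea
    change (MulAut.conj g⁻¹) (b' : G) = (b : G) at eb
    show (a : G) * b = b * a
    rw [← ea, ← eb, ← map_mul, ← map_mul, show (a' : G) * b' = b' * a' from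
      congrArg Subtype.val (hcomm a' ha' b' hb')]
  have h2B : ∀ a ∈ B, a * a = 1 := by
    rintro a ⟨_, ⟨a', ha', rfl⟩, ea⟩
    refine Subtype.ext ?_
    change (MulAut.conj g⁻¹) (a' : G) = (a : G) at ea
    show (a : G) * a = 1
    rw [← ea, ← map_mul, show (a' : G) * a' = 1 from congrArg Subtype.val (hsq a' ha'), map_one]
  have hcard : Nat.card ↥B = 1024 := by
    rw [Nat.card_congr (Subgroup.subgroupOfEquivOfLe hle).toEquiv, hB',
      Subgroup.card_map_of_injective (MulAut.conj g⁻¹).injective, baseG,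
      Subgroup.card_map_of_injective Subtype.val_injective, K.card_base hF hω]
  obtain ⟨c, hc'⟩ := (K.elementary_conj hF hω hcB h2B).2 hcard.ge
  refine ⟨g * (c : G)⁻¹, ?_, ?_⟩
  · have key : ∀ a : G, a ∈ K.baseG → (c : G) * (g⁻¹ * a * g) * (c : G)⁻¹ ∈ K.baseG := fun a ha => by
      have hb : g⁻¹ * a * g ∈ B' := ⟨a, ha, by simp [MulAut.conj_apply]⟩
      have hm : c * ⟨_, hle hb⟩ * c⁻¹ ∈ K.base := by
        rw [← hc']
        exact ⟨⟨_, hle hb⟩, Subgroup.mem_subgroupOf.2 hb, rfl⟩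
      exact ⟨_, hm, rfl⟩
    rw [← inv_inv (g * (c : G)⁻¹)]
    refine inv_mem ?_
    have hfin : ∀ a, a ∈ K.baseG → (g * (c : G)⁻¹)⁻¹ * a * (g * (c : G)⁻¹)⁻¹⁻¹ ∈ K.baseG := fun a ha => by
      rw [show (g * (c : G)⁻¹)⁻¹ * a * (g * (c : G)⁻¹)⁻¹⁻¹ = (c : G) * (g⁻¹ * a * g) * (c : G)⁻¹ by group]
      exact key a ha
    exact Subgroup.mem_normalizer_fintype hfin
  · have := Subgroup.mem_centralizer_singleton_iff.1 (inv_mem c.2)
    rw [show g * (c : G)⁻¹ * d * (g * (c : G)⁻¹)⁻¹ = g * ((c : G)⁻¹ * d * c) * g⁻¹ by group]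
    rw [this, show d * (c : G)⁻¹ * c = d by group, hg]

theorem stab_normalizes {m : ↥(Subgroup.centralizer ({d} : Set G))} (hm : m ∈ K.stab) :
    (m : G) ∈ Subgroup.normalizer (K.baseG : Set G) :=
  Subgroup.mem_normalizer_fintype (by
    rintro _ ⟨a, ha, rfl⟩
    exact ⟨m * a * m⁻¹, K.base_conj hF ha hm, rfl⟩)

theorem dConj_conj {m x : ↥(Subgroup.centralizer ({d} : Set G))} (hm : m ∈ K.stab) (hx : x ∈ K.dConj) :
    m * x * m⁻¹ ∈ K.dConj :=
  ⟨K.base_conj hF hx.1 hm, hx.2.trans (isConj_iff.2 ⟨(m : G), rfl⟩)⟩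

theorem z_mem_dConj : K.z ∈ K.dConj := ⟨K.z_mem_base hF, by rw [hz]⟩

theorem one_not_dConj : (1 : ↥(Subgroup.centralizer ({d} : Set G))) ∉ K.dConj := by
  rintro ⟨-, h⟩
  obtain ⟨g, hg⟩ := isConj_iff.1 h
  refine K.z_ne (Subtype.ext ?_)
  rw [hz]
  change g * d * g⁻¹ = 1 at hg
  have : d = g⁻¹ * 1 * g := by rw [← hg]; group
  simpa using this

/-- The orbit relation. -/
theorem transport {P : ↥(Subgroup.centralizer ({d} : Set G)) → ↥(Subgroup.centralizer ({d} : Set G)) → Prop}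
    (hP : ∀ n ∈ Subgroup.normalizer (K.baseG : Set G), ∀ u v u' v' : ↥(Subgroup.centralizer ({d} : Set G)),
      u ∈ K.base → v ∈ K.base → (u' : G) = n * u * n⁻¹ → (v' : G) = n * v * n⁻¹ → P u v → P u' v')
    (h0 : ∀ v ∈ K.base, P K.z v) : ∀ u ∈ K.dConj, ∀ v ∈ K.base, P u v := by
  intro u hu v hv
  obtain ⟨n, hn, e⟩ := K.transitive hF hω hz (x := (u : G)) ⟨u, hu.1, rfl⟩ hu.2
  have : n⁻¹ * (v : G) * n ∈ K.baseG := (Subgroup.mem_normalizer_iff''.1 hn _).1 ⟨v, hv, rfl⟩
  obtain ⟨v₀, hv₀, ev⟩ := this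
  refine hP n hn K.z v₀ u v (K.z_mem_base hF) hv₀ (by rw [hz, e]) ?_ (h0 v₀ hv₀)
  rw [show ((v₀ : G)) = n⁻¹ * (v : G) * n from ev]; group

theorem dConj_of_eq {n : G} {x x' : ↥(Subgroup.centralizer ({d} : Set G))}
    (hn : n ∈ Subgroup.normalizer (K.baseG : Set G)) (hx : x ∈ K.dConj) (e : (x' : G) = n * x * n⁻¹) :
    x' ∈ K.dConj := by
  obtain ⟨y, hy, ey⟩ := (Subgroup.mem_normalizer_iff.1 hn _).1 ⟨x, hx.1, rfl⟩
  obtain rfl : y = x' := Subtype.ext (ey.trans e.symm)
  exact ⟨hy, hx.2.trans (isConj_iff.2 ⟨n, e.symm⟩)⟩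

theorem not_dConj_of_eq {n : G} {x x' : ↥(Subgroup.centralizer ({d} : Set G))}
    (hn : n ∈ Subgroup.normalizer (K.baseG : Set G)) (hx : x ∉ K.dConj) (e : (x' : G) = n * x * n⁻¹) :
    x' ∉ K.dConj := fun h => hx (K.dConj_of_eq hF hω hz (inv_mem hn) h (by rw [e]; group))

omit hz in
/-- The conjugates of `d` in each fibre. -/
theorem fibre_le_two (q : Cfsg.PSU 6 F 2) : {x | x ∈ K.dConj ∧ K.φ x = q}.ncard ≤ 2 := by
  by_cases h : ∃ y, y ∈ K.dConj ∧ K.φ y = q
  · obtain ⟨y, -, hy⟩ := h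
    refine (Set.ncard_le_ncard (t := {y, K.z * y}) (fun x hx => ?_) (Set.toFinite _)).trans
      (by simpa using Set.ncard_insert_le y {K.z * y})
    exact K.same_image (hy.trans hx.2.symm)
  · push Not at h
    have : {x | x ∈ K.dConj ∧ K.φ x = q} = ∅ := Set.eq_empty_of_forall_notMem fun x hx => h x hx.1 hx.2
    simp [this]

/-- The fibres over one class all have the same size. -/
theorem fibre_const {k : Fin 3} {t : Fin 21 × Fin 21 × Fin 21} (ht : t ∈ cls k) :
    {x | x ∈ K.dConj ∧ K.φ x = π (cel hF k (tri ω t))}.ncard =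
      {x | x ∈ K.dConj ∧ K.φ x = π (cel hF k (fun i => Pi.single i 1))}.ncard := by
  obtain ⟨g, hg, e⟩ := class_trans hF hω ht
  obtain ⟨m, hm⟩ := K.surj (π g)
  have hms : m ∈ K.stab := ⟨g, hg, hm.symm⟩
  rw [← Set.ncard_image_of_injective
    {x | x ∈ K.dConj ∧ K.φ x = π (cel hF k (fun i => Pi.single i 1))} (MulAut.conj m).injective]
  congr 1
  ext x
  constructor
  · rintro ⟨hx, ex⟩
    refine ⟨m⁻¹ * x * m⁻¹⁻¹, ⟨K.dConj_conj hF hω hz (inv_mem hms) hx, ?_⟩, ?_⟩
    · rw [inv_inv, map_mul, map_mul, map_inv, hm, ex, ← e, map_mul, map_mul, map_inv]; group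
    · show m * (m⁻¹ * x * m⁻¹⁻¹) * m⁻¹ = x
      group
  · rintro ⟨y, ⟨hy, ey⟩, rfl⟩
    refine ⟨K.dConj_conj hF hω hz hms hy, ?_⟩
    show K.φ (m * y * m⁻¹) = _
    rw [map_mul, map_mul, map_inv, hm, ey, ← e, map_mul, map_mul, map_inv]

/-- The number of conjugates in terms of the three fibre sizes. -/
theorem card_dConj : K.dConj.ncard = 1 +
    21 * {x | x ∈ K.dConj ∧ K.φ x = π (cel hF 0 (fun i => Pi.single i 1))}.ncard +
    210 * {x | x ∈ K.dConj ∧ K.φ x = π (cel hF 1 (fun i => Pi.single i 1))}.ncard +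
    280 * {x | x ∈ K.dConj ∧ K.φ x = π (cel hF 2 (fun i => Pi.single i 1))}.ncard := by
  classical
  haveI := Fintype.ofFinite ↥(Subgroup.centralizer ({d} : Set G))
  have hcode : ∀ x ∈ K.dConj, ∃ n < 512, ∃ q, IsTr q (hmat ω n) ∧ K.φ x = π q := by
    intro x hx
    obtain ⟨q, hq, e⟩ := hx.1
    obtain ⟨n, hn, hqn⟩ := exists_code hF hω hq
    exact ⟨n, hn, q, hqn, e.symm⟩
  choose! f hf q hq hfq using hcode
  set S : Finset ↥(Subgroup.centralizer ({d} : Set G)) :=
    (Finset.univ.filter fun x => x ∈ K.dConj).erase K.z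
  have hcard : K.dConj.ncard = S.card + 1 := by
    rw [Finset.card_erase_add_one (by simpa using K.z_mem_dConj hF hω hz),
      ← Set.ncard_coe_finset, Finset.coe_filter]
    simp
  have hmaps : ∀ x ∈ S, f x ∈ allCodes.toFinset := by
    intro x hx
    obtain ⟨hxz, hx⟩ := Finset.mem_erase.1 hx
    have hx' := (Finset.mem_filter.1 hx).2
    rw [List.mem_toFinset]
    refine allCodes_cover _ (List.mem_range.2 (hf x hx')) fun h0 => hxz ?_
    have e1 : q x = 1 := (hq x hx').eq (by rw [h0, hmat_zero hω]; exact IsTr.one)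
    rcases (K.ker_iff x).1 (by rw [hfq x hx', e1, map_one]) with h | h
    · exact absurd (h ▸ hx') (K.one_not_dConj hF hω hz)
    · exact h
  have hfib : ∀ (k : Fin 3), ∀ t ∈ cls k, (S.filter fun x => f x = ccode k t).card =
      {x | x ∈ K.dConj ∧ K.φ x = π (cel hF k (fun i => Pi.single i 1))}.ncard := by
    intro k t ht
    rw [← K.fibre_const hF hω hz ht, ← Set.ncard_coe_finset]
    congr 1
    ext x
    simp only [Finset.coe_filter, Set.mem_ofPred_eq, S, Finset.mem_erase, Finset.mem_filter, Finset.mem_univ,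
      true_and]
    have hmem : ccode k t ∈ allCodes := by
      simp only [allCodes, List.mem_append, List.mem_map]
      match k, ht with
      | 0, ht => exact Or.inl (Or.inl ⟨t, ht, rfl⟩)
      | 1, ht => exact Or.inl (Or.inr ⟨t, ht, rfl⟩)
      | 2, ht => exact Or.inr ⟨t, ht, rfl⟩
    constructor
    · rintro ⟨⟨-, hx⟩, e⟩
      refine ⟨hx, ?_⟩
      rw [hfq x hx, (hq x hx).eq (e.symm ▸ cel_code hF hω k t)]
    · rintro ⟨hx, e⟩
      have hqe : q x = cel hF k (tri ω t) := Cov.pi_injOn hF (fixPlane_le_flag hF (hq x hx).mem)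
        (fixPlane_le_flag hF (cel_code hF hω k t).mem) ((hfq x hx).symm.trans e)
      have hfe : f x = ccode k t := hmat_inj hω (hf x hx) (ccode_lt k t)
        ((hq x hx).unique (hqe ▸ cel_code hF hω k t))
      refine ⟨⟨fun h => ?_, hx⟩, hfe⟩
      subst h
      refine zero_not_code ?_
      have hq1 : q K.z = 1 := Cov.pi_injOn hF (fixPlane_le_flag hF (hq _ hx).mem) (one_mem _) (by
        rw [← hfq _ hx, K.phi_z, map_one])
      rw [← show f K.z = 0 from hmat_inj hω (hf _ hx) (by norm_num) (by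
        rw [hmat_zero hω]; exact (hq _ hx).unique (hq1 ▸ IsTr.one)), hfe]
      exact hmem
  have hsum : ∀ (k : Fin 3), ((cls k).map fun t => (S.filter fun x => f x = ccode k t).card).sum =
      (cls k).length * {x | x ∈ K.dConj ∧ K.φ x = π (cel hF k (fun i => Pi.single i 1))}.ncard := by
    intro k
    rw [List.map_congr_left (hfib k), List.map_const', List.sum_replicate, smul_eq_mul]
  rw [hcard, Finset.card_eq_sum_card_fiberwise hmaps, List.sum_toFinset _ allCodes_nodup, allCodes,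
    List.map_append, List.map_append, List.sum_append, List.sum_append, List.map_map, List.map_map, List.map_map]
  simp only [Function.comp_def]
  rw [hsum 0, hsum 1, hsum 2, cls_length.1, cls_length.2.1, cls_length.2.2]
  ring

/-- The index bound from the automorphisms of `A₀`. -/
theorem count_dvd : 20160 * K.dConj.ncard ∣ ∏ i : Fin 10, (2 ^ 10 - 2 ^ (i : ℕ)) := by
  classical
  set N := Subgroup.normalizer (K.baseG : Set G)
  have hmap : ∀ n : ↥N, ∀ a : ↥K.baseG, (n : G) * a * (n : G)⁻¹ ∈ K.baseG := fun n a =>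
    (Subgroup.mem_normalizer_iff.1 n.2 _).1 a.2
  have hmap' : ∀ n : ↥N, ∀ a : ↥K.baseG, (n : G)⁻¹ * a * n ∈ K.baseG := fun n a =>
    (Subgroup.mem_normalizer_iff''.1 n.2 _).1 a.2
  let ρ : ↥N →* MulAut ↥K.baseG :=
    { toFun := fun n =>
        { toFun := fun a => ⟨(n : G) * a * (n : G)⁻¹, hmap n a⟩
          invFun := fun a => ⟨(n : G)⁻¹ * a * n, hmap' n a⟩
          left_inv := fun a => Subtype.ext (by simp [mul_assoc])
          right_inv := fun a => Subtype.ext (by simp [mul_assoc])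
          map_mul' := fun a b => Subtype.ext (by simp [mul_assoc]) }
      map_one' := MulEquiv.ext fun a => Subtype.ext (by simp)
      map_mul' := fun m n => MulEquiv.ext fun a => Subtype.ext (by simp [mul_assoc]) }
  let R := ρ.range
  let dd : ↥K.baseG := ⟨d, K.z, K.z_mem_base hF, hz⟩
  have horb : (MulAction.orbit ↥R dd).ncard = K.dConj.ncard := by
    refine Set.ncard_congr (fun a _ => ⟨(a : G), ?_⟩) (fun a ha => ?_) (fun a b _ _ e => ?_) fun y hy => ?_
    · obtain ⟨y, -, e⟩ := a.2; exact e ▸ y.2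
    · obtain ⟨⟨_, n, rfl⟩, rfl⟩ := ha
      obtain ⟨y, hy, e⟩ := hmap n dd
      exact ⟨(show (⟨(n : G) * d * (n : G)⁻¹, _⟩ : ↥(Subgroup.centralizer ({d} : Set G))) = y from
        Subtype.ext e.symm) ▸ hy, isConj_iff.2 ⟨n, rfl⟩⟩
    · exact Subtype.ext (congrArg Subtype.val e :)
    · obtain ⟨n, hn, e⟩ := K.transitive hF hω hz (x := (y : G)) ⟨y, hy.1, rfl⟩ hy.2
      exact ⟨⟨(y : G), y, hy.1, rfl⟩, ⟨⟨ρ ⟨n, hn⟩, _, rfl⟩, Subtype.ext e⟩, Subtype.ext rfl⟩
  let ι : ↥K.stab →* ↥N :=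
    { toFun := fun m => ⟨((m : ↥(Subgroup.centralizer ({d} : Set G))) : G), K.stab_normalizes hF hω hz m.2⟩
      map_one' := rfl, map_mul' := fun a b => rfl }
  set J := (ρ.comp ι).range
  have hker : (ρ.comp ι).ker = K.base.subgroupOf K.stab := by
    ext m
    rw [MonoidHom.mem_ker, Subgroup.mem_subgroupOf]
    constructor
    · intro h
      refine K.centralizer_base hF hω fun a ha => Subtype.ext ?_
      have h1 : ((m : ↥(Subgroup.centralizer ({d} : Set G))) : G) * a *
          ((m : ↥(Subgroup.centralizer ({d} : Set G))) : G)⁻¹ = (a : G) :=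
        congrArg Subtype.val (MulEquiv.congr_fun h ⟨(a : G), a, ha, rfl⟩)
      exact mul_inv_eq_iff_eq_mul.1 h1
    · intro h
      refine MulEquiv.ext fun a => Subtype.ext ?_
      obtain ⟨a', ha', e⟩ := a.2
      show ((m : ↥(Subgroup.centralizer ({d} : Set G))) : G) * (a : G) * _⁻¹ = (a : G)
      rw [mul_inv_eq_iff_eq_mul, ← e]
      exact congrArg Subtype.val ((K.base_elementary hF hω).1 _ h _ ha')
  have hJ : Nat.card ↥J = 20160 := by
    have h := Subgroup.card_eq_card_quotient_mul_card_subgroup (ρ.comp ι).ker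
    rw [Nat.card_congr (QuotientGroup.quotientKerEquivRange _).toEquiv, hker,
      Nat.card_congr (Subgroup.subgroupOfEquivOfLe ((K.base_le_syl hF).trans (K.syl_le hF))).toEquiv,
      K.card_base hF hω, K.card_stab' hF] at h
    change 20643840 = Nat.card ↥J * 1024 at h
    omega
  have hJS : J.subgroupOf R ≤ MulAction.stabilizer ↥R dd := by
    rintro ⟨r, hr⟩ ⟨m, hm⟩
    change ρ (ι m) = r at hm
    subst hm
    refine MulAction.mem_stabilizer_iff.2 (Subtype.ext ?_)
    show ((m : ↥(Subgroup.centralizer ({d} : Set G))) : G) * d * _⁻¹ = d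
    rw [mul_inv_eq_iff_eq_mul]
    exact Subgroup.mem_centralizer_singleton_iff.1 m.1.2
  have hJR : J ≤ R := by rintro _ ⟨m, rfl⟩; exact ⟨ι m, rfl⟩
  have h1 := Subgroup.card_dvd_of_le hJS
  rw [Nat.card_congr (Subgroup.subgroupOfEquivOfLe hJR).toEquiv, hJ] at h1
  have h2 := Subgroup.card_mul_index (MulAction.stabilizer ↥R dd)
  rw [MulAction.index_stabilizer, horb] at h2
  obtain ⟨hcomm, hsq⟩ := K.base_elementary hF hω
  letI : CommGroup ↥K.baseG :=
    { (inferInstance : Group ↥K.baseG) with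
      mul_comm := fun a b => Subtype.ext (by
        obtain ⟨a', ha', ea⟩ := a.2
        obtain ⟨b', hb', eb⟩ := b.2
        show (a : G) * b = b * a
        rw [← ea, ← eb]
        exact congrArg Subtype.val (hcomm _ ha' _ hb')) }
  haveI : Fact (Nat.Prime 2) := ⟨Nat.prime_two⟩
  have h3 := CfsgLib.SympType.card_aut_dvd (p := 2) (Q := ↥K.baseG) (fun a => Subtype.ext (by
      obtain ⟨a', ha', ea⟩ := a.2
      show (a : G) ^ 2 = 1
      rw [← ea, pow_two]
      exact congrArg Subtype.val (hsq _ ha'))) (e := 10)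
    (by rw [baseG, Subgroup.card_map_of_injective Subtype.val_injective, K.card_base hF hω]; rfl)
  exact ((Nat.mul_dvd_mul_right h1 _).trans h2.dvd).trans ((Subgroup.card_subgroup_dvd_card R).trans h3)

theorem no_subgroup_card {P : ↥(Subgroup.centralizer ({d} : Set G)) → Prop} (hP : ∀ x, P x → x ∈ K.base)
    (h1 : P 1) (hm : ∀ x y, P x → P y → P (x * y)) {n : ℕ} (hn : {x | P x}.ncard = n) : n ∣ 1024 := by
  let H : Subgroup ↥(Subgroup.centralizer ({d} : Set G)) :=
    { carrier := {x | P x}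
      one_mem' := h1
      mul_mem' := fun {x y} hx hy => hm x y hx hy
      inv_mem' := fun {x} hx => by
        rw [Set.mem_ofPred_eq, inv_eq_of_mul_eq_one_right ((K.base_elementary hF hω).2 x (hP x hx))]
        exact hx }
  have := Subgroup.card_dvd_of_le (show H ≤ K.base from hP)
  rw [K.card_base hF hω, show Nat.card ↥H = n from (Nat.card_coe_set_eq {x | P x}).trans hn] at this
  exact this

/-- Exactly 22 conjugates. -/
theorem ncard_dConj (hnwc : ∃ g : G, g * d * g⁻¹ ∈ Subgroup.centralizer ({d} : Set G) ∧ g * d * g⁻¹ ≠ d) :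
    K.dConj.ncard = 22 := by
  classical
  obtain ⟨hcomm, hsq⟩ := K.base_elementary hF hω
  have hcount := K.card_dConj hF hω hz
  set na := {x | x ∈ K.dConj ∧ K.φ x = π (cel hF 0 (fun i => Pi.single i 1))}.ncard with hna
  set nb := {x | x ∈ K.dConj ∧ K.φ x = π (cel hF 1 (fun i => Pi.single i 1))}.ncard with hnb
  set nc := {x | x ∈ K.dConj ∧ K.φ x = π (cel hF 2 (fun i => Pi.single i 1))}.ncard with hnc
  have hle : na ≤ 2 ∧ nb ≤ 2 ∧ nc ≤ 2 :=
    ⟨K.fibre_le_two hF hω _, K.fibre_le_two hF hω _, K.fibre_le_two hF hω _⟩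
  -- the fibre over a non-trivial element
  have hcls : ∀ x ∈ K.base, x ≠ 1 → x ≠ K.z → ∃ k : Fin 3,
      {y | y ∈ K.dConj ∧ K.φ y = K.φ x}.ncard = ![na, nb, nc] k := by
    intro x hx h1 hz1
    obtain ⟨g, hg, e⟩ := hx
    have hg1 : g ≠ 1 := fun e' => by
      rw [e', map_one] at e
      rcases (K.ker_iff x).1 e.symm with h | h
      exacts [h1 h, hz1 h]
    obtain ⟨k, t, ht, rfl⟩ := exists_class hF hω hg hg1
    refine ⟨k, ?_⟩
    rw [← e, K.fibre_const hF hω hz ht]
    fin_cases k <;> simp [na, nb, nc]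
  have hpair : ∀ x, x ≠ K.z * x := fun x e => K.z_ne (mul_eq_right.1 e.symm)
  have fib_cases : ∀ x : ↥(Subgroup.centralizer ({d} : Set G)),
      {y | y ∈ K.dConj ∧ K.φ y = K.φ x}.ncard =
        (if x ∈ K.dConj then 1 else 0) + if K.z * x ∈ K.dConj then 1 else 0 := by
    intro x
    have hset : {y | y ∈ K.dConj ∧ K.φ y = K.φ x} =
        ({x, K.z * x} : Set _) ∩ K.dConj := by
      ext y
      simp only [Set.mem_ofPred_eq, Set.mem_inter_iff, Set.mem_insert_iff, Set.mem_singleton_iff]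
      constructor
      · rintro ⟨hy, e⟩; exact ⟨K.same_image e.symm, hy⟩
      · rintro ⟨rfl | rfl, hy⟩
        · exact ⟨hy, rfl⟩
        · exact ⟨hy, by rw [map_mul, K.phi_z, one_mul]⟩
    rw [hset]
    by_cases h1 : x ∈ K.dConj <;> by_cases h2 : K.z * x ∈ K.dConj
    · rw [Set.inter_eq_left.2 (by simp [Set.insert_subset_iff, h1, h2]), Set.ncard_pair (hpair x),
        if_pos h1, if_pos h2]
    · rw [Set.insert_inter_of_mem h1, Set.singleton_inter_eq_empty.2 h2]; simp [h1, h2]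
    · rw [Set.insert_inter_of_notMem h1, Set.inter_eq_left.2 (Set.singleton_subset_iff.2 h2)]; simp [h1, h2]
    · rw [Set.insert_inter_of_notMem h1, Set.singleton_inter_eq_empty.2 h2]; simp [h1, h2]
  have hzz : ∀ x, K.z * (K.z * x) = x := fun x => by rw [← mul_assoc, K.z_sq, one_mul]
  have hbase : ∀ x ∈ K.dConj, x ∈ K.base := fun x hx => hx.1
  have htot : (K.base : Set ↥(Subgroup.centralizer ({d} : Set G))).ncard = 1024 := (Nat.card_coe_set_eq _).symm.trans (K.card_base hF hω)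
  have hdvd := K.count_dvd hF hω hz
  rw [hcount] at hdvd
  rcases count_cases na nb nc hle.1 hle.2.1 hle.2.2 hdvd with
    ⟨ea, eb, ec⟩ | ⟨ea, eb, ec⟩ | ⟨ea, eb, ec⟩ | ⟨ea, eb, ec⟩ | ⟨ea, eb, ec⟩ | ⟨ea, eb, ec⟩
  · -- only `d`
    exfalso
    obtain ⟨g, hgC, hgd⟩ := hnwc
    set x : ↥(Subgroup.centralizer ({d} : Set G)) := ⟨_, hgC⟩
    have hdd : d * d = 1 := by rw [← hz]; exact congrArg Subtype.val K.z_sq
    have hx2 : x * x = 1 := Subtype.ext (by
      show g * d * g⁻¹ * (g * d * g⁻¹) = 1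
      rw [show g * d * g⁻¹ * (g * d * g⁻¹) = g * (d * d) * g⁻¹ by group, hdd, mul_one, mul_inv_cancel])
    obtain ⟨c, hc⟩ := K.invol_into_base hF hω hx2
    have hconj : c * x * c⁻¹ ∈ K.dConj :=
      ⟨hc, isConj_iff.2 ⟨(c : G) * g, by simp [x, mul_assoc]⟩⟩
    have hne : c * x * c⁻¹ ≠ K.z := fun e => hgd (by
      refine (congrArg Subtype.val (show x = K.z from ?_)).trans hz
      rw [← K.conj_z c⁻¹, ← e]; group)
    have := Set.ncard_le_ncard (show ({K.z, c * x * c⁻¹} : Set _) ⊆ K.dConj from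
      Set.insert_subset (K.z_mem_dConj hF hω hz) (Set.singleton_subset_iff.2 hconj)) (Set.toFinite _)
    rw [Set.ncard_pair hne.symm, hcount, ea, eb, ec] at this
    omega
  · rw [hcount, ea, eb, ec]
  · -- 561: closed under products
    exfalso
    have key : ∀ u ∈ K.dConj, ∀ v ∈ K.base, v ∈ K.dConj → v ≠ u → u * v ∈ K.dConj := by
      refine K.transport hF hω hz (P := fun u v => v ∈ K.dConj → v ≠ u → u * v ∈ K.dConj)
        (fun n hn u v u' v' hu hv eu ev h hv' hne => ?_) fun v hv hv' hne => ?_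
      · have hvd : v ∈ K.dConj := K.dConj_of_eq hF hω hz (inv_mem hn) hv' (by rw [ev]; group)
        refine K.dConj_of_eq hF hω hz hn (h hvd fun e => hne (Subtype.ext (by rw [ev, eu, e]))) ?_
        rw [Subgroup.coe_mul, Subgroup.coe_mul, eu, ev]; group
      · obtain ⟨k, hk⟩ := hcls v hv (fun e => K.one_not_dConj hF hω hz (e ▸ hv')) hne
        rw [fib_cases v, if_pos hv'] at hk
        by_contra h2
        rw [if_neg h2] at hk
        fin_cases k <;> simp [ea, eb, ec] at hk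
    have hsz := K.no_subgroup_card hF hω hz (P := fun x => x = 1 ∨ x ∈ K.dConj)
      (fun x hx => hx.elim (fun e => e ▸ one_mem _) (hbase x)) (Or.inl rfl) (fun x y hx hy => by
        rcases hx with rfl | hx
        · rwa [one_mul]
        rcases hy with rfl | hy
        · exact Or.inr (by rwa [mul_one])
        by_cases e : y = x
        · exact Or.inl (by rw [e]; exact hsq x (hbase x hx))
        · exact Or.inr (key x hx y (hbase y hy) hy e)) (n := 562) (by
        rw [show {x | x = 1 ∨ x ∈ K.dConj} = insert 1 K.dConj from rfl,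
          Set.ncard_insert_of_notMem (K.one_not_dConj hF hω hz), hcount, ea, eb, ec])
    norm_num at hsz
  · -- 512: a complement
    exfalso
    have key : ∀ u ∈ K.dConj, ∀ v ∈ K.base, v ∈ K.dConj → u * v ∉ K.dConj := by
      refine K.transport hF hω hz (P := fun u v => v ∈ K.dConj → u * v ∉ K.dConj)
        (fun n hn u v u' v' hu hv eu ev h hv' => ?_) fun v hv hv' h2 => ?_
      · have hvd : v ∈ K.dConj := K.dConj_of_eq hF hω hz (inv_mem hn) hv' (by rw [ev]; group)
        refine K.not_dConj_of_eq hF hω hz hn (h hvd) ?_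
        rw [Subgroup.coe_mul, Subgroup.coe_mul, eu, ev]; group
      · by_cases hvz : v = K.z
        · rw [hvz, K.z_sq] at h2; exact K.one_not_dConj hF hω hz h2
        obtain ⟨k, hk⟩ := hcls v hv (fun e => K.one_not_dConj hF hω hz (e ▸ hv')) hvz
        rw [fib_cases v, if_pos hv', if_pos h2] at hk
        fin_cases k <;> simp [ea, eb, ec] at hk
    set T : Set ↥(Subgroup.centralizer ({d} : Set G)) := (K.base : Set ↥(Subgroup.centralizer ({d} : Set G))) \ K.dConj
    have hT : T.ncard = 512 := by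
      rw [Set.ncard_sdiff (fun x hx => hbase x hx) (Set.toFinite _), htot, hcount, ea, eb, ec]
    have himg : ∀ u ∈ K.dConj, (fun v => u * v) '' K.dConj = T := fun u hu => by
      refine Set.eq_of_subset_of_ncard_le ?_ ?_ (Set.toFinite _)
      · rintro _ ⟨v, hv, rfl⟩
        exact ⟨mul_mem (hbase u hu) (hbase v hv), key u hu v (hbase v hv) hv⟩
      · rw [hT, Set.ncard_image_of_injective _ (mul_right_injective u), hcount, ea, eb, ec]
    let H : Subgroup ↥(Subgroup.centralizer ({d} : Set G)) :=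
      { carrier := T
        one_mem' := ⟨one_mem K.base, K.one_not_dConj hF hω hz⟩
        mul_mem' := fun {s s'} hs hs' => by
          rw [← himg K.z (K.z_mem_dConj hF hω hz)] at hs
          obtain ⟨y, hy, rfl⟩ := hs
          rw [← himg y hy] at hs'
          obtain ⟨u, hu, rfl⟩ := hs'
          show K.z * y * (y * u) ∈ T
          rw [mul_assoc, ← mul_assoc y, hsq y (hbase y hy), one_mul, ← himg K.z (K.z_mem_dConj hF hω hz)]
          exact ⟨u, hu, rfl⟩
        inv_mem' := fun {s} hs => by rwa [inv_eq_of_mul_eq_one_right (hsq s hs.1)] }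
    refine K.no_split hF hω (H := H) (fun x hx => hx.1) (fun h => h.2 (K.z_mem_dConj hF hω hz))
      ((Nat.card_coe_set_eq T).trans hT) fun m hm x hx => ⟨K.base_conj hF hx.1 hm, fun h => hx.2 ?_⟩
    have := K.dConj_conj hF hω hz (inv_mem hm) h
    simpa [mul_assoc] using this
  · -- 792: the others form a subgroup
    exfalso
    set P : ↥(Subgroup.centralizer ({d} : Set G)) → Prop := fun x => x ∈ K.base ∧ x ∉ K.dConj
    have key : ∀ u ∈ K.dConj, ∀ v ∈ K.base, P v → v ≠ 1 → ¬ (P (u * v) ∧ u * v ≠ 1) := by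
      refine K.transport hF hω hz (P := fun u v => P v → v ≠ 1 → ¬ (P (u * v) ∧ u * v ≠ 1))
        (fun n hn u v u' v' hu hv eu ev h hv' hne => ?_) fun v hv hv' hne h2 => ?_
      · have hvd : v ∉ K.dConj := K.not_dConj_of_eq hF hω hz (inv_mem hn) hv'.2 (by rw [ev]; group)
        rintro ⟨⟨-, h2⟩, h3⟩
        refine h ⟨hv, hvd⟩ (fun e => hne (Subtype.ext ?_)) ⟨⟨mul_mem hu hv, ?_⟩, fun e => h3 (Subtype.ext ?_)⟩
        · rw [ev, e]; simp
        · exact K.not_dConj_of_eq hF hω hz (inv_mem hn) h2 (by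
            rw [Subgroup.coe_mul, Subgroup.coe_mul, eu, ev]; group)
        · rw [Subgroup.coe_mul, eu, ev,
            show n * (u : G) * n⁻¹ * (n * v * n⁻¹) = n * ((u : G) * v) * n⁻¹ by group,
            show (u : G) * v = 1 from congrArg Subtype.val e]
          simp
      · have hvz : v ≠ K.z := fun e => hv'.2 (e ▸ K.z_mem_dConj hF hω hz)
        obtain ⟨k, hk⟩ := hcls v hv hne hvz
        rw [fib_cases v, if_neg hv'.2, if_neg h2.1.2] at hk
        fin_cases k <;> simp [ea, eb, ec] at hk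
    have hsz := K.no_subgroup_card hF hω hz (P := P) (fun x hx => hx.1)
      ⟨one_mem _, K.one_not_dConj hF hω hz⟩ (fun x y hx hy => by
        refine ⟨mul_mem hx.1 hy.1, fun h => ?_⟩
        have hy1 : y ≠ 1 := by rintro rfl; rw [mul_one] at h; exact hx.2 h
        have hx1 : x ≠ 1 := by rintro rfl; rw [one_mul] at h; exact hy.2 h
        have e : x * y * y = x := by rw [mul_assoc, hsq y hy.1, mul_one]
        exact key _ h y hy.1 hy hy1 ⟨e.symm ▸ hx, e.symm ▸ hx1⟩) (n := 232) (by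
        show ((K.base : Set ↥(Subgroup.centralizer ({d} : Set G))) \ K.dConj).ncard = 232
        rw [Set.ncard_sdiff (fun x hx => hbase x hx) (Set.toFinite _), htot, hcount, ea, eb, ec])
    norm_num at hsz
  · -- 1023: the canonical element is a conjugate
    exfalso
    obtain ⟨w, hw, hw1, hwz, hfix, hval, h₀, hh₀, r₀, hr₀, r₀', hr₀', heq⟩ := K.exists_witness hF hω
    have hwd : w ∈ K.dConj := by
      obtain ⟨k, hk⟩ := hcls w hw hw1 hwz
      rw [fib_cases w] at hk
      by_contra h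
      rw [if_neg h] at hk
      fin_cases k <;> simp [ea, eb, ec] at hk <;> split at hk <;> omega
    obtain ⟨n, hn, en⟩ := K.transitive hF hω hz (x := (w : G)) ⟨w, hw, rfl⟩ hwd.2
    set N := Subgroup.normalizer (K.baseG : Set G)
    set S := K.syl.map (Subgroup.centralizer ({d} : Set G)).subtype with hS
    haveI : Fact (Nat.Prime 2) := ⟨Nat.prime_two⟩
    have hSN : S ≤ N := by rintro _ ⟨s, hs, rfl⟩; exact K.stab_normalizes hF hω hz (K.syl_le hF hs)
    have hSw : S ≤ Subgroup.centralizer ({(w : G)} : Set G) := by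
      rintro _ ⟨s, hs, rfl⟩
      refine Subgroup.mem_centralizer_singleton_iff.2 ?_
      exact congrArg Subtype.val (mul_inv_eq_iff_eq_mul.1 (hfix s hs))
    set W := N ⊓ Subgroup.centralizer ({(w : G)} : Set G)
    have hWmap : (N ⊓ (Subgroup.centralizer ({d} : Set G))).map (MulAut.conj n).toMonoidHom = W := by
      ext x
      constructor
      · rintro ⟨y, ⟨hy, hyd⟩, rfl⟩
        refine ⟨N.mul_mem (N.mul_mem hn hy) (N.inv_mem hn), Subgroup.mem_centralizer_singleton_iff.2 ?_⟩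
        have := Subgroup.mem_centralizer_singleton_iff.1 hyd
        show n * y * n⁻¹ * (w : G) = (w : G) * (n * y * n⁻¹)
        rw [← en, show n * y * n⁻¹ * (n * d * n⁻¹) = n * (y * d) * n⁻¹ by group, this]; group
      · rintro ⟨hx, hxw⟩
        refine ⟨n⁻¹ * x * n, ⟨N.mul_mem (N.mul_mem (N.inv_mem hn) hx) hn, Subgroup.mem_centralizer_singleton_iff.2 ?_⟩, ?_⟩
        · have := Subgroup.mem_centralizer_singleton_iff.1 hxw
          rw [← en] at this
          calc n⁻¹ * x * n * d = n⁻¹ * (x * (n * d * n⁻¹)) * n := by group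
            _ = d * (n⁻¹ * x * n) := by rw [this]; group
        · show n * (n⁻¹ * x * n) * n⁻¹ = x
          group
    have hfacC : (Nat.card ↥(Subgroup.centralizer ({d} : Set G))).factorization 2 = 16 := by
      obtain ⟨P, hP⟩ := K.syl_sylow hF hω
      have := P.card_eq_multiplicity
      rw [hP, K.card_syl hF hω] at this
      exact (Nat.pow_right_injective (le_refl 2) (show (2 : ℕ) ^ 16 = 2 ^ _ from this)).symm
    have hSc : Nat.card ↥S = 2 ^ 16 := by
      rw [hS, Subgroup.card_map_of_injective Subtype.val_injective, K.card_syl hF hω]; rfl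
    have hSC : S ≤ N ⊓ (Subgroup.centralizer ({d} : Set G)) := le_inf hSN (by rintro _ ⟨s, -, rfl⟩; exact s.2)
    have hfac : (Nat.card ↥W).factorization 2 = 16 := by
      rw [← hWmap, Subgroup.card_map_of_injective (MulAut.conj n).injective]
      refine le_antisymm ?_ ?_
      · rw [← hfacC]
        exact (Nat.factorization_le_iff_dvd Nat.card_pos.ne' Nat.card_pos.ne').2
          (Subgroup.card_dvd_of_le inf_le_right) 2
      · exact (Nat.prime_two.pow_dvd_iff_le_factorization Nat.card_pos.ne').1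
          (hSc ▸ Subgroup.card_dvd_of_le hSC)
    have hS2W : S.map (MulAut.conj n).toMonoidHom ≤ W := hWmap ▸ Subgroup.map_mono hSC
    have hS1W : S ≤ W := le_inf hSN hSw
    let P₁ : Sylow 2 ↥W := Sylow.ofCard ((S.map (MulAut.conj n).toMonoidHom).subgroupOf W) (by
      rw [Nat.card_congr (Subgroup.subgroupOfEquivOfLe hS2W).toEquiv,
        Subgroup.card_map_of_injective (MulAut.conj n).injective, hSc, hfac])
    let P₂ : Sylow 2 ↥W := Sylow.ofCard (S.subgroupOf W) (by
      rw [Nat.card_congr (Subgroup.subgroupOfEquivOfLe hS1W).toEquiv, hSc, hfac])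
    obtain ⟨x, hx⟩ := MulAction.exists_smul_eq ↥W P₁ P₂
    have hxS : ∀ s ∈ S, (x : G) * (n * s * n⁻¹) * (x : G)⁻¹ ∈ S := by
      intro s hs
      have h1 : (⟨n * s * n⁻¹, hS2W ⟨s, hs, rfl⟩⟩ : ↥W) ∈ (P₁ : Subgroup ↥W) := ⟨s, hs, rfl⟩
      have h2 : x * ⟨n * s * n⁻¹, hS2W ⟨s, hs, rfl⟩⟩ * x⁻¹ ∈ ((x • P₁ : Sylow 2 ↥W) : Subgroup ↥W) :=
        Subgroup.smul_mem_pointwise_smul _ (MulAut.conj x) _ h1
      rw [hx] at h2
      exact h2
    set m := (x : G) * n
    have hmN : m ∈ N := mul_mem x.2.1 hn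
    have hmd : m * d * m⁻¹ = (w : G) := by
      have := Subgroup.mem_centralizer_singleton_iff.1 x.2.2
      rw [show m * d * m⁻¹ = (x : G) * (n * d * n⁻¹) * (x : G)⁻¹ by simp only [m]; group, en,
        this, mul_inv_cancel_right]
    have hle : S.map (MulAut.conj m).toMonoidHom ≤ S := by
      rintro _ ⟨s, hs, rfl⟩
      have := hxS s hs
      show m * s * m⁻¹ ∈ S
      rwa [show m * s * m⁻¹ = (x : G) * (n * s * n⁻¹) * (x : G)⁻¹ by simp only [m]; group]
    have hD : ∀ r ∈ ⁅K.syl, K.syl⁆, ∃ r' ∈ ⁅K.syl, K.syl⁆, (r' : G) = m * r * m⁻¹ := by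
      intro r hr
      have h1 : (MulAut.conj m).toMonoidHom (r : G) ∈ ⁅S, S⁆ := by
        have h0 : (MulAut.conj m).toMonoidHom ((Subgroup.centralizer ({d} : Set G)).subtype r) ∈
            (⁅S, S⁆).map (MulAut.conj m).toMonoidHom := by
          refine Subgroup.mem_map_of_mem _ ?_
          rw [hS, ← Subgroup.map_commutator]; exact Subgroup.mem_map_of_mem _ hr
        rw [Subgroup.map_commutator] at h0
        exact Subgroup.commutator_mono hle hle h0
      rw [hS, ← Subgroup.map_commutator] at h1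
      obtain ⟨r', hr', e⟩ := h1
      exact ⟨r', hr', e⟩
    obtain ⟨h', hh', eh⟩ := (Subgroup.mem_normalizer_iff.1 hmN _).1 (⟨h₀, hh₀, rfl⟩ : (h₀ : G) ∈ K.baseG)
    obtain ⟨r', hr', er⟩ := hD r₀ hr₀
    obtain ⟨r'', hr'', er'⟩ := hD r₀' hr₀'
    have hmw : m * (w : G) * m⁻¹ = ((⁅⁅h', r'⁆, r''⁆ : ↥(Subgroup.centralizer ({d} : Set G))) : G) := by
      rw [← heq]
      show (MulAut.conj m).toMonoidHom ((Subgroup.centralizer ({d} : Set G)).subtype ⁅⁅h₀, r₀⁆, r₀'⁆) = (Subgroup.centralizer ({d} : Set G)).subtype ⁅⁅h', r'⁆, r''⁆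
      simp only [map_commutatorElement]
      rw [show ((Subgroup.centralizer ({d} : Set G)).subtype h') = (MulAut.conj m).toMonoidHom ((Subgroup.centralizer ({d} : Set G)).subtype h₀) from eh,
        show ((Subgroup.centralizer ({d} : Set G)).subtype r') = (MulAut.conj m).toMonoidHom ((Subgroup.centralizer ({d} : Set G)).subtype r₀) from er,
        show ((Subgroup.centralizer ({d} : Set G)).subtype r'') = (MulAut.conj m).toMonoidHom ((Subgroup.centralizer ({d} : Set G)).subtype r₀') from er']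
    rcases hval h' hh' r' hr' r'' hr'' with h | h
    · refine hw1 (Subtype.ext ?_)
      rw [h] at hmw
      have : (w : G) = m⁻¹ * 1 * m := by
        rw [show (1 : G) = ((1 : ↥(Subgroup.centralizer ({d} : Set G))) : G) from rfl, ← hmw]; group
      simpa using this
    · rw [h, ← hmd] at hmw
      refine hwz (Subtype.ext ?_)
      rw [hz]
      rw [← hmd]
      calc m * d * m⁻¹ = m⁻¹ * (m * (m * d * m⁻¹) * m⁻¹) * m := by group
        _ = m⁻¹ * (m * d * m⁻¹) * m := by rw [hmw]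
        _ = d := by group

end Cov

end CfsgLib.SixPlane
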