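import Cfsg.Agent.SixPlane.Space

/-!
An elementary abelian 2-group stabilising the plane and not fixing it pointwise has order at most 256.
-/

set_option autoImplicit false
set_option linter.unusedSectionVars false
set_option linter.style.haveILetI false

namespace CfsgLib.SixPlane

open Matrix CfsgLib.Unitary CfsgLib.ThreeT CfsgLib.ThreeT.SixTwo

variable {F : Type} [Field F] [CharP F 2] [Finite F] (hF : Nat.card F = 2 ^ 2)

local notation "W3" => Fin 3 → F
local notation "hh" => Cfsg.hermForm 6 F 2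

/-- The form of a matrix. -/
def bf (Φ : Matrix (Fin 3) (Fin 3) F) (c c' : W3) : F := sf c (Φ *ᵥ c')

omit [Finite F] in
theorem bf_add_left (Φ : Matrix (Fin 3) (Fin 3) F) (c d e : W3) : bf Φ (c + d) e = bf Φ c e + bf Φ d e :=
  sf_add_left _ _ _

omit [Finite F] in
theorem bf_smul_left (Φ : Matrix (Fin 3) (Fin 3) F) (r : F) (c e : W3) : bf Φ (r • c) e = r * bf Φ c e :=
  sf_smul_left _ _ _

omit [Finite F] in
theorem bf_add_right (Φ : Matrix (Fin 3) (Fin 3) F) (c d e : W3) : bf Φ c (d + e) = bf Φ c d + bf Φ c e := by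
  rw [bf, Matrix.mulVec_add, sf_add_right]; rfl

omit [Finite F] in
theorem bf_smul_right (Φ : Matrix (Fin 3) (Fin 3) F) (r : F) (c e : W3) :
    bf Φ c (r • e) = r ^ 2 * bf Φ c e := by
  rw [bf, Matrix.mulVec_smul, sf_smul_right]; rfl

omit [Finite F] in
theorem bf_single (Φ : Matrix (Fin 3) (Fin 3) F) (i j : Fin 3) :
    bf Φ (Pi.single i 1) (Pi.single j 1) = Φ i j ^ 2 := by
  rw [bf, sf_single_left, Matrix.mulVec_single_one]; rfl

omit [Finite F] in
theorem sq_inj {a b : F} (h : a ^ 2 = b ^ 2) : a = b := by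
  have : (a + b) ^ 2 = 0 := by linear_combination h + (a * b + b ^ 2) * CharTwo.two_eq_zero (R := F)
  linear_combination (eq_zero_of_pow_eq_zero this) - b * CharTwo.two_eq_zero (R := F)

/-- Invariance of a Hermitian form under a linear map. -/
structure Inv (T : Module.End F W3) (Φ : Matrix (Fin 3) (Fin 3) F) : Prop where
  herm : ∀ c c', bf Φ c' c = bf Φ c c' ^ 2
  inv : ∀ c c', bf Φ (T c) (T c') = bf Φ c c'

/-- `T = 1 + μ ⊗ p`. -/
structure Shear (T : Module.End F W3) (μ : W3 →ₗ[F] F) (p : W3) : Prop where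
  apply : ∀ c, T c = c + μ c • p
  mup : μ p = 0

omit [Finite F] in
theorem exists_shear {T : Module.End F W3} (h2 : T * T = 1) (h1 : T ≠ 1) :
    ∃ μ p, p ≠ 0 ∧ (∃ y, μ y = 1) ∧ Shear T μ p := by
  let N : W3 →ₗ[F] W3 := T + LinearMap.id
  have hN : ∀ c, N c = T c + c := fun c => rfl
  have hTT : ∀ c, T (T c) = c := fun c => by rw [← Module.End.mul_apply, h2, Module.End.one_apply]
  have hNN : ∀ c, N (N c) = 0 := fun c => by
    rw [hN, hN, map_add, hTT]
    funext i
    simp only [Pi.add_apply, Pi.zero_apply]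
    linear_combination (T c i + c i) * CharTwo.two_eq_zero (R := F)
  have hN0 : N ≠ 0 := fun e => h1 (LinearMap.ext fun c => by
    have := LinearMap.congr_fun e c
    rw [hN] at this
    exact funext fun i => CharTwo.add_eq_zero.1 (congrFun this i))
  obtain ⟨y₀, hy₀⟩ : ∃ y, N y ≠ 0 := by
    by_contra hc
    push Not at hc
    exact hN0 (LinearMap.ext hc)
  have hle : LinearMap.range N ≤ LinearMap.ker N := by
    rintro _ ⟨c, rfl⟩; exact hNN c
  have hr := LinearMap.finrank_range_add_finrank_ker N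
  have hr' := Submodule.finrank_mono hle
  rw [Module.finrank_pi, Fintype.card_fin] at hr
  have hsp : Submodule.span F {N y₀} = LinearMap.range N := by
    refine Submodule.eq_of_le_of_finrank_le ((Submodule.span_singleton_le_iff_mem _ _).2 ⟨y₀, rfl⟩) ?_
    rw [finrank_span_singleton hy₀]; omega
  obtain ⟨ψ, hψ⟩ := Module.Projective.exists_dual_ne_zero F hy₀
  refine ⟨(ψ (N y₀))⁻¹ • ψ.comp N, N y₀, hy₀, ⟨y₀, ?_⟩, ⟨fun c => ?_, ?_⟩⟩
  · simp [hψ]
  · obtain ⟨a, ha⟩ := Submodule.mem_span_singleton.1 (hsp.symm ▸ LinearMap.mem_range_self N c)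
    have : ((ψ (N y₀))⁻¹ • ψ.comp N) c = a := by simp [← ha, hψ, mul_left_comm]
    rw [this, ha, hN]
    funext i
    simp only [Pi.add_apply]
    linear_combination -(c i) * CharTwo.two_eq_zero (R := F)
  · simp [hNN]

omit [Finite F] in
/-- Two commuting shears with an involutory product share their functional or their centre. -/
theorem shear_share {T T' : Module.End F W3} {μ ν : W3 →ₗ[F] F} {p q : W3} (hp : p ≠ 0) (_hq : q ≠ 0)
    (hμ : ∃ y, μ y = 1) (hν : ∃ y, ν y = 1) (hT : Shear T μ p) (hT' : Shear T' ν q)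
    (hc : T * T' = T' * T) (h2 : T * T' * (T * T') = 1) :
    (∃ a : F, q = a • p) ∨ ∃ a : F, a ≠ 0 ∧ ν = a • μ := by
  by_cases hpq : ∃ a : F, q = a • p
  · exact Or.inl hpq
  right
  have hpq' : ∀ a b : F, a • p + b • q = 0 → a = 0 ∧ b = 0 := fun a b e => by
    by_cases hb : b = 0
    · subst hb
      rw [zero_smul, add_zero] at e
      exact ⟨(smul_eq_zero.1 e).resolve_right hp, rfl⟩
    · refine absurd ⟨-(a / b), ?_⟩ hpq
      rw [eq_neg_of_add_eq_zero_right e |> fun h => show q = -(b⁻¹ • (a • p)) by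
        rw [← smul_neg, ← h, smul_smul, inv_mul_cancel₀ hb, one_smul], smul_smul, neg_smul, div_eq_inv_mul]
  have hcomm : ∀ c, (μ q * ν c) • p = (ν p * μ c) • q := fun c => by
    have := LinearMap.congr_fun hc c
    simp only [Module.End.mul_apply, hT.apply, hT'.apply, map_add, map_smul, smul_eq_mul] at this
    funext i
    have := congrFun this i
    simp at this ⊢
    linear_combination this
  obtain ⟨y, hy⟩ := hν
  obtain ⟨x, hx⟩ := hμ
  have z1 : μ q = 0 := by
    have := (hpq' (μ q * ν y) (-(ν p * μ y)) (by rw [neg_smul, hcomm, add_neg_cancel])).1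
    rwa [hy, mul_one] at this
  have z2 : ν p = 0 := by
    have := (hpq' (μ q * ν x) (-(ν p * μ x)) (by rw [neg_smul, hcomm, add_neg_cancel])).2
    rwa [hx, mul_one, neg_eq_zero] at this
  -- the product is a shear as well
  have hTT : ∀ c, (T * T') c = c + (μ c • p + ν c • q) := fun c => by
    simp only [Module.End.mul_apply, hT.apply, hT'.apply, map_add, map_smul, z1, smul_eq_mul, mul_zero,
      add_zero]
    abel
  have h1 : T * T' ≠ 1 := fun e => by
    have := hTT x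
    rw [e, Module.End.one_apply, left_eq_add] at this
    exact one_ne_zero (α := F) (hx ▸ (hpq' _ _ this).1)
  obtain ⟨θ, r, hr, ⟨w, hw⟩, hθ⟩ := exists_shear h2 h1
  have key : ∀ c, μ c • p + ν c • q = θ c • r := fun c =>
    add_left_cancel ((hTT c).symm.trans (hθ.apply c))
  have hr' : r = μ w • p + ν w • q := by rw [key, hw, one_smul]
  have hprop : ∀ c, μ c = θ c * μ w ∧ ν c = θ c * ν w := fun c => by
    have := key c
    rw [hr', smul_add, smul_smul, smul_smul] at this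
    obtain ⟨u1, u2⟩ := hpq' (μ c - θ c * μ w) (ν c - θ c * ν w) (by
      rw [sub_smul, sub_smul, sub_add_sub_comm, this, sub_self])
    exact ⟨sub_eq_zero.1 u1, sub_eq_zero.1 u2⟩
  have hμw : μ w ≠ 0 := fun e => one_ne_zero (α := F) (by rw [← hx, (hprop x).1, e, mul_zero])
  have hνw : ν w ≠ 0 := fun e => one_ne_zero (α := F) (by rw [← hy, (hprop y).2, e, mul_zero])
  refine ⟨ν w / μ w, div_ne_zero hνw hμw, LinearMap.ext fun c => ?_⟩
  rw [LinearMap.smul_apply, smul_eq_mul, (hprop c).2, (hprop c).1]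
  field_simp

omit [Finite F] in
/-- A shear fixes the form only if its centre is orthogonal to the kernel of its functional. -/
theorem fixed_data {T : Module.End F W3} {μ : W3 →ₗ[F] F} {p y₀ : W3} {Φ : Matrix (Fin 3) (Fin 3) F}
    (hT : Shear T μ p) (hy : μ y₀ = 1) (h : Inv T Φ) :
    bf Φ y₀ p ^ 2 = bf Φ y₀ p ∧ ∀ c, bf Φ c p = μ c * bf Φ y₀ p := by
  have e2 : (2 : F) = 0 := CharTwo.two_eq_zero
  have key : ∀ c c', μ c * bf Φ p c' + μ c' ^ 2 * bf Φ c p + μ c * μ c' ^ 2 * bf Φ p p = 0 := fun c c' => by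
    have := h.inv c c'
    simp only [hT.apply, bf_add_left, bf_add_right, bf_smul_left, bf_smul_right] at this
    linear_combination this
  have hpp : bf Φ p p = 0 := by
    have := key p y₀
    rw [hT.mup, hy] at this
    linear_combination this
  have h1 : ∀ c, bf Φ c p = μ c * bf Φ p y₀ := fun c => by
    have := key c y₀
    rw [hy, hpp] at this
    linear_combination this - μ c * bf Φ p y₀ * e2
  have e : bf Φ y₀ p = bf Φ p y₀ := by rw [h1, hy, one_mul]
  refine ⟨?_, fun c => by rw [e]; exact h1 c⟩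
  conv_rhs => rw [e]
  exact (h.herm y₀ p).symm

omit [Finite F] in
theorem form_eq {Φ Ψ : Matrix (Fin 3) (Fin 3) F} {p y z : W3}
    (hsp : ∀ c, ∃ a b d : F, c = a • p + b • y + d • z)
    (h : ∀ u ∈ ({p, y, z} : Set W3), ∀ v ∈ ({p, y, z} : Set W3), bf Φ u v = bf Ψ u v) : Φ = Ψ := by
  ext i j
  refine sq_inj ?_
  rw [← bf_single, ← bf_single]
  obtain ⟨a, b, d, hc⟩ := hsp (Pi.single i 1)
  obtain ⟨a', b', d', hc'⟩ := hsp (Pi.single j 1)
  have hp : p ∈ ({p, y, z} : Set W3) := Or.inl rfl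
  have hy : y ∈ ({p, y, z} : Set W3) := Or.inr (Or.inl rfl)
  have hz : z ∈ ({p, y, z} : Set W3) := Or.inr (Or.inr rfl)
  rw [hc, hc']
  simp only [bf_add_left, bf_add_right, bf_smul_left, bf_smul_right, h p hp p hp, h p hp y hy, h p hp z hz,
    h y hy p hp, h y hy y hy, h y hy z hz, h z hz p hp, h z hz y hy, h z hz z hz]

include hF

theorem card_bits : Nat.card {x : F // x ^ 2 = x} ≤ 2 := by
  have h : ∀ x : {x : F // x ^ 2 = x}, x.1 = 0 ∨ x.1 = 1 := fun x => by
    have : x.1 * (x.1 - 1) = 0 := by linear_combination x.2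
    exact (mul_eq_zero.1 this).imp_right sub_eq_zero.1
  classical
  refine (Nat.card_le_card_of_injective (fun x : {x : F // x ^ 2 = x} => decide (x.1 = 0))
    fun a b e => Subtype.ext ?_).trans (by rw [Nat.card_eq_fintype_card, Fintype.card_bool])
  rcases h a with ha | ha <;> rcases h b with hb | hb <;> simp [ha, hb] at e ⊢

/-- The bound for a set of involutory maps and the forms they fix. -/
theorem count (R : Set (Module.End F W3)) (H : Set (Matrix (Fin 3) (Fin 3) F))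
    (hR2 : ∀ T ∈ R, T * T = 1) (hmul : ∀ S ∈ R, ∀ T ∈ R, S * T ∈ R)
    (hcomm : ∀ S ∈ R, ∀ T ∈ R, S * T = T * S) (hne : ∃ T ∈ R, T ≠ 1)
    (hH : ∀ Φ ∈ H, ∀ T ∈ R, Inv T Φ) : Nat.card R * Nat.card H ≤ 256 := by
  haveI := Fintype.ofFinite F
  obtain ⟨T₀, hT₀, hT₀1⟩ := hne
  obtain ⟨μ, p, hp, ⟨y, hy⟩, h₀⟩ := exists_shear (hR2 _ hT₀) hT₀1
  have hK : Module.finrank F (LinearMap.ker μ) = 2 := by
    have hsurj : LinearMap.range μ = ⊤ := LinearMap.range_eq_top.2 fun a => ⟨a • y, by simp [hy]⟩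
    have := LinearMap.finrank_range_add_finrank_ker μ
    rw [hsurj, finrank_top, Module.finrank_self, Module.finrank_pi, Fintype.card_fin] at this
    omega
  have hcompl : ∀ z, μ z = 0 → (∀ a : F, z ≠ a • p) → ∀ c, ∃ a b d : F, c = a • p + b • y + d • z := by
    intro z hz hzp c
    have hind : LinearIndependent F ![p, z] := linearIndependent_fin2.2 ⟨fun e => hzp 0 (by rw [zero_smul]; exact e),
      fun a e => by
        by_cases ha : a = 0
        · exact hp (by simpa [ha] using e.symm)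
        · refine hzp a⁻¹ ?_
          rw [show p = a • z from e.symm, smul_smul, inv_mul_cancel₀ ha, one_smul]⟩
    have hsp : Submodule.span F (Set.range ![p, z]) = LinearMap.ker μ := by
      refine Submodule.eq_of_le_of_finrank_le (Submodule.span_le.2 ?_)
        (by rw [finrank_span_eq_card hind, hK, Fintype.card_fin])
      rintro _ ⟨i, rfl⟩
      fin_cases i
      exacts [h₀.mup, hz]
    have hm : c - μ c • y ∈ Submodule.span F (Set.range ![p, z]) := by rw [hsp]; simp [hy]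
    rw [Matrix.range_cons, Matrix.range_cons, Matrix.range_empty, Set.union_empty,
      Set.singleton_union, Submodule.mem_span_pair] at hm
    obtain ⟨a, d, e⟩ := hm
    refine ⟨a, μ c, d, ?_⟩
    rw [eq_sub_iff_add_eq] at e
    conv_lhs => rw [← e]
    abel
  have hbit := card_bits hF
  have hF4 : Nat.card F = 4 := hF
  have herm : ∀ {Φ}, Φ ∈ H → ∀ c, bf Φ c c ^ 2 = bf Φ c c := fun hΦ c => ((hH _ hΦ _ hT₀).herm c c).symm
  have hbit0 : ∀ Φ : ↥H, bf (Φ : Matrix (Fin 3) (Fin 3) F) y p ^ 2 = bf (Φ : Matrix (Fin 3) (Fin 3) F) y p :=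
    fun Φ => (fixed_data h₀ hy (hH _ Φ.2 _ hT₀)).1
  have shear : ∀ T ∈ R, (∃ q, μ q = 0 ∧ ∀ c, T c = c + μ c • q) ∨
      ∃ ν : W3 →ₗ[F] F, ν p = 0 ∧ ∀ c, T c = c + ν c • p := by
    intro T hT
    by_cases hT1 : T = 1
    · exact Or.inl ⟨0, map_zero μ, fun c => by simp [hT1]⟩
    obtain ⟨ν, q, hq, hν, h'⟩ := exists_shear (hR2 T hT) hT1
    rcases shear_share hp hq ⟨y, hy⟩ hν h₀ h' (hcomm _ hT₀ _ hT) (hR2 _ (hmul _ hT₀ _ hT)) with
      ⟨a, ha⟩ | ⟨a, ha, rfl⟩
    · refine Or.inr ⟨a • ν, ?_, fun c => ?_⟩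
      · rw [LinearMap.smul_apply, ← map_smul, ← ha]; exact h'.mup
      · rw [h'.apply, ha, LinearMap.smul_apply, smul_eq_mul, mul_comm, ← smul_smul]
    · refine Or.inl ⟨a • q, ?_, fun c => ?_⟩
      · have := h'.mup
        rw [LinearMap.smul_apply] at this
        rw [map_smul]; exact this
      · rw [h'.apply, LinearMap.smul_apply, smul_eq_mul, mul_comm, ← smul_smul, smul_comm]
  by_cases hA : ∃ T₁ ∈ R, ∃ q, μ q = 0 ∧ (∀ a : F, q ≠ a • p) ∧ ∀ c, T₁ c = c + μ c • q
  · -- a second centre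
    obtain ⟨T₁, hT₁, q, hq, hqp, h₁⟩ := hA
    have h₁' : Shear T₁ μ q := ⟨h₁, hq⟩
    have hq0 : q ≠ 0 := fun e => hqp 0 (by rw [e, zero_smul])
    have hall : ∀ T ∈ R, ∃ r, μ r = 0 ∧ ∀ c, T c = c + μ c • r := by
      intro T hT
      refine (shear T hT).elim id fun ⟨ν, hνp, hν⟩ => ?_
      by_cases hν0 : ν = 0
      · exact ⟨0, map_zero μ, fun c => by simp [hν, hν0]⟩
      obtain ⟨x, hx⟩ : ∃ x, ν x ≠ 0 := by
        by_contra hc
        push Not at hc
        exact hν0 (LinearMap.ext hc)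
      rcases shear_share (T := T₁) (T' := T) hq0 hp ⟨y, hy⟩ ⟨(ν x)⁻¹ • x, by simp [hx]⟩ h₁' ⟨hν, hνp⟩
          (hcomm _ hT₁ _ hT) (hR2 _ (hmul _ hT₁ _ hT)) with ⟨a, ha⟩ | ⟨a, -, rfl⟩
      · exfalso
        have ha0 : a ≠ 0 := fun e => hp (by rw [ha, e, zero_smul])
        exact hqp a⁻¹ (by rw [ha, smul_smul, inv_mul_cancel₀ ha0, one_smul])
      · exact ⟨a • p, by simp [h₀.mup], fun c => by
          rw [hν, LinearMap.smul_apply, smul_eq_mul, mul_comm, ← smul_smul]⟩
    have hR : Nat.card R ≤ 16 := by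
      choose r hr using hall
      have hker : Nat.card ↥(LinearMap.ker μ) = 16 := by
        rw [Module.natCard_eq_pow_finrank (K := F), hK, hF4]; rfl
      refine hker ▸ Nat.card_le_card_of_injective (fun T : ↥R => (⟨r T.1 T.2, (hr T.1 T.2).1⟩ : ↥(LinearMap.ker μ)))
        fun S T e => Subtype.ext (LinearMap.ext fun c => ?_)
      rw [(hr S.1 S.2).2, (hr T.1 T.2).2, show r S.1 S.2 = r T.1 T.2 from congrArg Subtype.val e]
    have hH8 : Nat.card H ≤ 8 := by
      refine (Nat.card_le_card_of_injective (fun Φ : ↥H => ((⟨_, hbit0 Φ⟩ : {x : F // x ^ 2 = x}),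
        (⟨_, (fixed_data h₁' hy (hH _ Φ.2 _ hT₁)).1⟩ : {x : F // x ^ 2 = x}),
        (⟨_, herm Φ.2 y⟩ : {x : F // x ^ 2 = x}))) fun Φ Ψ e => Subtype.ext ?_).trans ?_
      · simp only [Prod.mk.injEq, Subtype.mk.injEq] at e
        obtain ⟨e1, e2, e3⟩ := e
        have f := fun Γ : ↥H => (fixed_data h₀ hy (hH _ Γ.2 _ hT₀)).2
        have g := fun Γ : ↥H => (fixed_data h₁' hy (hH _ Γ.2 _ hT₁)).2
        have cp : ∀ c, bf Φ.1 c p = bf Ψ.1 c p := fun c => by rw [f Φ c, f Ψ c, e1]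
        have cq : ∀ c, bf Φ.1 c q = bf Ψ.1 c q := fun c => by rw [g Φ c, g Ψ c, e2]
        refine form_eq (hcompl q hq hqp) ?_
        rintro u hu v (rfl | rfl | rfl)
        · exact cp u
        · rcases hu with rfl | rfl | rfl
          · rw [(hH _ Φ.2 _ hT₀).herm v u, (hH _ Ψ.2 _ hT₀).herm v u, cp v]
          · exact e3
          · rw [(hH _ Φ.2 _ hT₀).herm v u, (hH _ Ψ.2 _ hT₀).herm v u, cq v]
        · exact cq u
      · rw [Nat.card_prod, Nat.card_prod]
        exact (Nat.mul_le_mul hbit (Nat.mul_le_mul hbit hbit)).trans (by norm_num)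
    exact (Nat.mul_le_mul hR hH8).trans (by norm_num)
  -- all centres agree
  push Not at hA
  have hall : ∀ T ∈ R, ∃ ν : W3 →ₗ[F] F, ν p = 0 ∧ ∀ c, T c = c + ν c • p := by
    intro T hT
    refine (shear T hT).elim (fun ⟨q, hq, h⟩ => ?_) id
    by_cases ha : ∃ a : F, q = a • p
    · obtain ⟨a, rfl⟩ := ha
      exact ⟨a • μ, by simp [h₀.mup], fun c => by rw [h, LinearMap.smul_apply, smul_eq_mul, smul_smul, mul_comm]⟩
    · push Not at ha
      obtain ⟨c, hc⟩ := hA T hT q hq ha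
      exact absurd (h c) hc
  choose ν hνp hν using hall
  obtain ⟨z, hz, hzp⟩ : ∃ z, μ z = 0 ∧ ∀ a : F, z ≠ a • p := by
    by_contra hc
    push Not at hc
    have : LinearMap.ker μ ≤ Submodule.span F {p} := fun z hz => by
      obtain ⟨a, ha⟩ := hc z hz
      exact Submodule.mem_span_singleton.2 ⟨a, ha.symm⟩
    have := Submodule.finrank_mono this
    rw [hK, finrank_span_singleton hp] at this
    omega
  have hdec := hcompl z hz hzp
  have hνext : ∀ (S T : ↥R), ν S.1 S.2 y = ν T.1 T.2 y → ν S.1 S.2 z = ν T.1 T.2 z → S = T := by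
    intro S T ey ez
    refine Subtype.ext (LinearMap.ext fun c => ?_)
    obtain ⟨a, b, d, hc⟩ := hdec c
    rw [hν S.1 S.2, hν T.1 T.2]
    simp only [hc, map_add, map_smul, hνp, ey, ez]
  have hform : ∀ Φ Ψ : ↥H, bf Φ.1 y p = bf Ψ.1 y p → bf Φ.1 y y = bf Ψ.1 y y → bf Φ.1 z z = bf Ψ.1 z z →
      bf Φ.1 y z = bf Ψ.1 y z → Φ = Ψ := by
    intro Φ Ψ e1 e2 e3 e4
    have f := fun Γ : ↥H => (fixed_data h₀ hy (hH _ Γ.2 _ hT₀)).2
    have cp : ∀ c, bf Φ.1 c p = bf Ψ.1 c p := fun c => by rw [f Φ c, f Ψ c, e1]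
    have sw : ∀ u v, bf Φ.1 v u = bf Ψ.1 v u → bf Φ.1 u v = bf Ψ.1 u v := fun u v e => by
      rw [(hH _ Φ.2 _ hT₀).herm v u, (hH _ Ψ.2 _ hT₀).herm v u, e]
    refine Subtype.ext (form_eq hdec ?_)
    rintro u (rfl | rfl | rfl) v (rfl | rfl | rfl)
    exacts [cp _, sw _ _ (cp _), sw _ _ (cp _), cp _, e2, e4, cp _, sw _ _ e4, e3]
  have hF' : Nat.card F ≤ 4 := hF4.le
  by_cases hB : ∀ (T : Module.End F W3) (hT : T ∈ R), ν T hT z = 0
  · have hR : Nat.card R ≤ 4 := hF4 ▸ Nat.card_le_card_of_injective (fun T : ↥R => ν T.1 T.2 y)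
      fun S T e => hνext S T e (by rw [hB, hB])
    have hH32 : Nat.card H ≤ 32 := by
      refine (Nat.card_le_card_of_injective (fun Φ : ↥H => ((⟨_, hbit0 Φ⟩ : {x : F // x ^ 2 = x}),
        (⟨_, herm Φ.2 y⟩ : {x : F // x ^ 2 = x}), (⟨_, herm Φ.2 z⟩ : {x : F // x ^ 2 = x}), bf Φ.1 y z))
        fun Φ Ψ e => ?_).trans ?_
      · simp only [Prod.mk.injEq, Subtype.mk.injEq] at e
        exact hform Φ Ψ e.1 e.2.1 e.2.2.1 e.2.2.2
      · rw [Nat.card_prod, Nat.card_prod, Nat.card_prod]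
        exact (Nat.mul_le_mul hbit (Nat.mul_le_mul hbit (Nat.mul_le_mul hbit hF'))).trans (by norm_num)
    exact (Nat.mul_le_mul hR hH32).trans (by norm_num)
  push Not at hB
  obtain ⟨T₁, hT₁, hz1⟩ := hB
  have hR : Nat.card R ≤ 16 := by
    refine (Nat.card_le_card_of_injective (fun T : ↥R => (ν T.1 T.2 y, ν T.1 T.2 z)) fun S T e =>
      hνext S T (congrArg Prod.fst e) (congrArg Prod.snd e)).trans ?_
    rw [Nat.card_prod, hF4]
  have hzero : ∀ Φ : ↥H, bf Φ.1 y p = 0 := fun Φ => by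
    set x := (ν T₁ hT₁ z)⁻¹ • z with hx
    have e1 := (fixed_data h₀ hy (hH _ Φ.2 _ hT₀)).2 x
    have e2 := (fixed_data (y₀ := x) ⟨hν T₁ hT₁, hνp T₁ hT₁⟩ (by simp [hx, hz1]) (hH _ Φ.2 _ hT₁)).2 y
    rw [show μ x = 0 by simp [hx, hz], zero_mul] at e1
    rwa [e1, mul_zero] at e2
  have hH16 : Nat.card H ≤ 16 := by
    refine (Nat.card_le_card_of_injective (fun Φ : ↥H =>
      ((⟨_, herm Φ.2 y⟩ : {x : F // x ^ 2 = x}), (⟨_, herm Φ.2 z⟩ : {x : F // x ^ 2 = x}), bf Φ.1 y z))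
      fun Φ Ψ e => ?_).trans ?_
    · simp only [Prod.mk.injEq, Subtype.mk.injEq] at e
      exact hform Φ Ψ (by rw [hzero, hzero]) e.1 e.2.1 e.2.2
    · rw [Nat.card_prod, Nat.card_prod]
      exact (Nat.mul_le_mul hbit (Nat.mul_le_mul hbit hF')).trans (by norm_num)
  exact (Nat.mul_le_mul hR hH16).trans (by norm_num)

omit hF in
/-- The induced map on the quotient by the plane. -/
noncomputable def tmap (g : Cfsg.SU 6 F 2) : Module.End F W3 :=
  co.comp ((Matrix.mulVecLin (suMat g)).comp sec)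

omit hF in
theorem co_apply_stab {g : Cfsg.SU 6 F 2} (hg : g ∈ stabPlane) (x : Fin 6 → F) :
    co (suMat g *ᵥ x) = tmap g (co x) := by
  obtain ⟨b, hb⟩ := mem_stabPlane.1 hg (inco x)
  show _ = co (suMat g *ᵥ sec (co x))
  conv_lhs => rw [decomp x]
  rw [Matrix.mulVec_add, map_add, hb, co_emb, add_zero]

/-- An elementary abelian subgroup of the stabiliser not fixing the plane pointwise has order at most 256. -/
theorem card_le_of_stab {B : Subgroup (Cfsg.SU 6 F 2)} (hB : B ≤ stabPlane)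
    (hc : ∀ a ∈ B, ∀ b ∈ B, a * b = b * a) (h2 : ∀ a ∈ B, a * a = 1) (hne : ¬ B ≤ fixPlane) :
    Nat.card ↥B ≤ 256 := by
  classical
  have hmul : ∀ a ∈ B, ∀ b, tmap (a * b) = tmap a * tmap b := fun a ha b => LinearMap.ext fun c => by
    show co (suMat (a * b) *ᵥ sec c) = tmap a (co (suMat b *ᵥ sec c))
    rw [suMat_mul, ← Matrix.mulVec_mulVec, co_apply_stab (hB ha)]
  have hone : tmap (1 : Cfsg.SU 6 F 2) = 1 := LinearMap.ext fun c => by
    show co (suMat (1 : Cfsg.SU 6 F 2) *ᵥ sec c) = c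
    rw [suMat_one, Matrix.one_mulVec, co_sec]
  let ρ : ↥B →* Module.End F W3 :=
    { toFun := fun g => tmap g.1, map_one' := hone, map_mul' := fun a b => hmul a.1 a.2 b.1 }
  let ρu := ρ.toHomUnits
  -- the kernel fixes the plane
  have hker : ∀ g : ↥B, ρ g = 1 → (g : Cfsg.SU 6 F 2) ∈ fixPlane := fun g hg a => by
    obtain ⟨b, hb⟩ := mem_stabPlane.1 (hB g.2) a
    rw [hb]
    refine congrArg emb (sf_ext fun e => ?_).symm
    have hx := fun x : Fin 6 → F => su_preserves g.1 x (emb a)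
    have h1 : ∀ c, sf c b = sf c a := fun c => by
      have := hx (sec c)
      rw [hb, hh_emb, hh_emb, co_sec, co_apply_stab (hB g.2), co_sec, show tmap g.1 c = c from
        LinearMap.congr_fun hg c] at this
      exact this
    have h3 : ∀ u v : W3, (∀ c, sf c u = sf c v) → u = v := fun u v h => funext fun k => sq_inj (by
      rw [← sf_single_left, ← sf_single_left, h])
    rw [h3 a b fun c => (h1 c).symm]
  let R : Set (Module.End F W3) := Set.range ρ
  let H : Set (Matrix (Fin 3) (Fin 3) F) := {Φ | ∃ g ∈ B, IsTr g Φ}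
  have hinv : ∀ Φ ∈ H, ∀ T ∈ R, Inv T Φ := by
    rintro Φ ⟨h, hhB, hΦ⟩ _ ⟨g, rfl⟩
    refine ⟨fun c c' => ?_, fun c c' => ?_⟩
    · have hs := hΦ.herm hF
      simp only [bf, sf, Matrix.mulVec, dotProduct, Fin.sum_univ_three]
      rw [hs 1 0, hs 2 0, hs 2 1]
      have a0 := hs 0 0
      have a1 := hs 1 1
      have a2 := hs 2 2
      have h4 : ∀ a : F, (a ^ 2) ^ 2 = a := fun a => by
        by_cases ha : a = 0
        · simp [ha]
        · linear_combination a * SixTwo.pow_three hF ha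
      simp only [CharTwo.add_sq, mul_pow, h4, ← a0, ← a1, ← a2]
      ring
    · show bf Φ (tmap g.1 c) (tmap g.1 c') = bf Φ c c'
      have e : suMat g.1 *ᵥ emb (Φ *ᵥ c') = emb (Φ *ᵥ tmap g.1 c') := by
        have e1 : suMat (g.1 * h) *ᵥ sec c' = suMat (h * g.1) *ᵥ sec c' := by rw [hc _ g.2 _ hhB]
        rw [suMat_mul, suMat_mul, ← Matrix.mulVec_mulVec, ← Matrix.mulVec_mulVec, hΦ, hΦ,
          Matrix.mulVec_add, co_sec, co_apply_stab (hB g.2), co_sec] at e1
        exact add_left_cancel e1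
      have := su_preserves g.1 (sec c) (emb (Φ *ᵥ c'))
      rw [e, hh_emb, hh_emb, co_sec, co_apply_stab (hB g.2), co_sec] at this
      exact this
  have hR := count hF R H (by rintro _ ⟨g, rfl⟩; rw [← map_mul, show g * g = 1 from Subtype.ext (h2 _ g.2), map_one])
    (by rintro _ ⟨g, rfl⟩ _ ⟨g', rfl⟩; exact ⟨g * g', map_mul _ _ _⟩)
    (by rintro _ ⟨g, rfl⟩ _ ⟨g', rfl⟩; rw [← map_mul, ← map_mul, show g * g' = g' * g from Subtype.ext (hc _ g.2 _ g'.2)])
    (by
      obtain ⟨g, hg, hgQ⟩ := SetLike.not_le_iff_exists.1 hne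
      exact ⟨ρ ⟨g, hg⟩, ⟨_, rfl⟩, fun e => hgQ (hker ⟨g, hg⟩ e)⟩)
    hinv
  haveI : Finite (Module.End F W3) := Finite.of_injective (fun T => (⇑T : W3 → W3)) DFunLike.coe_injective
  calc Nat.card ↥B = Nat.card ↥ρu.range * Nat.card ↥ρu.ker := by
        rw [Subgroup.card_eq_card_quotient_mul_card_subgroup ρu.ker,
          Nat.card_congr (QuotientGroup.quotientKerEquivRange ρu).toEquiv]
    _ ≤ Nat.card R * Nat.card H := Nat.mul_le_mul
        (Nat.card_le_card_of_injective (fun u : ↥ρu.range => (⟨(u.1 : Module.End F W3), by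
          obtain ⟨g, hg⟩ := u.2
          exact ⟨g, by rw [← hg]; rfl⟩⟩ : ↥R)) fun a b e => Subtype.ext (Units.ext (congrArg Subtype.val e)))
        (by
          choose Φ hΦ using fun g : ↥ρu.ker => exists_isTr hF (hker g.1 (congrArg Units.val g.2))
          exact Nat.card_le_card_of_injective (fun g => (⟨Φ g, _, g.1.2, hΦ g⟩ : ↥H)) fun a b e =>
            Subtype.ext (Subtype.ext ((hΦ a).eq (by rw [show Φ a = Φ b from congrArg Subtype.val e]; exact hΦ b))))
    _ ≤ 256 := hR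

end CfsgLib.SixPlane
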