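import Cfsg.Agent.SixPlane.Levi
import Cfsg.Agent.SixPlane.Offender
import Cfsg.Agent.Spor3T.M22Local
import Cfsg.Agent.Spor3T.UnitaryCover

/-!
A double cover of `PSU₆(2)`: the preimage `A₀` of the group fixing a plane pointwise.
-/

set_option autoImplicit false
set_option linter.unusedSectionVars false
set_option linter.style.haveILetI false

namespace CfsgLib.SixPlane

open Matrix CfsgLib.Unitary CfsgLib.ThreeT CfsgLib.ThreeT.SixTwo

/-- A perfect double cover of `PSU₆(2)`. -/
structure Cov (F : Type) [Field F] (C : Type*) [Group C] where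
  /-- The projection. -/
  φ : C →* Cfsg.PSU 6 F 2
  surj : Function.Surjective φ
  /-- The central involution. -/
  z : C
  z_ne : z ≠ 1
  ker_iff : ∀ x, φ x = 1 ↔ x = 1 ∨ x = z
  central : ∀ x, z * x = x * z
  perfect : commutator C = ⊤

variable {F : Type} [Field F] [CharP F 2] [Finite F] (hF : Nat.card F = 2 ^ 2) {ω : F}
  (hω : ω ^ 2 = ω + 1) {C : Type*} [Group C] [Finite C] (K : Cov F C)

local notation "hh" => Cfsg.hermForm 6 F 2
local notation "π" => QuotientGroup.mk' (Subgroup.center (Cfsg.SU 6 F 2))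

namespace Cov

/-- The preimage of the stabiliser of the plane. -/
def stab : Subgroup C := ((stabPlane (F := F)).map π).comap K.φ

/-- The preimage of the plane's group. -/
def base : Subgroup C := ((fixPlane (F := F)).map π).comap K.φ

/-- The preimage of the flag group. -/
noncomputable def syl : Subgroup C := ((flag (F := F)).map π).comap K.φ

theorem phi_z : K.φ K.z = 1 := (K.ker_iff _).2 (Or.inr rfl)

theorem z_sq : K.z * K.z = 1 := by
  rcases (K.ker_iff (K.z * K.z)).1 (by rw [map_mul, K.phi_z, one_mul]) with h | h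
  · exact h
  · exact absurd (mul_eq_left.1 h) K.z_ne

theorem z_inv : K.z⁻¹ = K.z := inv_eq_of_mul_eq_one_right K.z_sq

theorem ker_le_center : K.φ.ker ≤ Subgroup.center C := fun x hx => by
  refine Subgroup.mem_center_iff.2 fun g => ?_
  rcases (K.ker_iff x).1 hx with rfl | rfl
  · rw [mul_one, one_mul]
  · exact (K.central g).symm

theorem ker_sq : ∀ x ∈ K.φ.ker, x * x = 1 := fun x hx => by
  rcases (K.ker_iff x).1 hx with rfl | rfl
  · exact one_mul 1
  · exact K.z_sq

theorem same_image {x y : C} (h : K.φ x = K.φ y) : y = x ∨ y = K.z * x := by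
  rcases (K.ker_iff (y * x⁻¹)).1 (by rw [map_mul, map_inv, h, mul_inv_cancel]) with e | e
  · exact Or.inl (mul_inv_eq_one.1 e)
  · exact Or.inr (mul_inv_eq_iff_eq_mul.1 e)

theorem conj_z (c : C) : c * K.z * c⁻¹ = K.z := by rw [← K.central, mul_inv_cancel_right]

theorem card_comap (H : Subgroup (Cfsg.PSU 6 F 2)) : Nat.card ↥(H.comap K.φ) = 2 * Nat.card ↥H := by
  have hk : Nat.card ↥K.φ.ker = 2 := by
    refine Nat.card_eq_two_iff.2 ⟨⟨1, one_mem _⟩, ⟨K.z, K.phi_z⟩, fun e => K.z_ne (congrArg Subtype.val e).symm, ?_⟩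
    refine Set.eq_univ_of_forall fun x => ?_
    rcases (K.ker_iff x.1).1 x.2 with e | e
    · exact Or.inl (Subtype.ext e)
    · exact Or.inr (Subtype.ext e)
  have h1 := Subgroup.card_mul_index (H.comap K.φ)
  rw [Subgroup.index_comap_of_surjective H K.surj,
    Subgroup.card_eq_card_quotient_mul_card_subgroup K.φ.ker,
    Nat.card_congr (QuotientGroup.quotientKerEquivOfSurjective K.φ K.surj).toEquiv, hk,
    ← Subgroup.card_mul_index H] at h1
  have hpos : 0 < H.index := Nat.pos_of_ne_zero Subgroup.index_ne_zero_of_finite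
  exact Nat.eq_of_mul_eq_mul_right hpos (by rw [h1]; ring)

include hF

theorem center_flag {g : Cfsg.SU 6 F 2} (hz : g ∈ Subgroup.center (Cfsg.SU 6 F 2))
    (hg : g ∈ flag (F := F)) : g = 1 := by
  obtain ⟨a, ha⟩ := (mem_center_SU_iff hF (by norm_num)).1 hz
  obtain ⟨A, B, C, a0, -, -⟩ := hg
  change (g.1 : Matrix (Fin 6) (Fin 6) F) *ᵥ bu 0 = bu 0 at a0
  rw [ha, Matrix.smul_mulVec, Matrix.one_mulVec] at a0
  have := congrFun a0 0
  simp [bu, emb] at this
  exact Subtype.ext (Subtype.ext (by rw [ha, this, one_smul]; rfl))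

theorem pi_injOn {g h : Cfsg.SU 6 F 2} (hg : g ∈ flag (F := F)) (hh' : h ∈ flag (F := F))
    (e : π g = π h) : g = h :=
  inv_mul_eq_one.1 (center_flag hF (QuotientGroup.eq.1 e) (mul_mem (inv_mem hg) hh'))

theorem card_map_pi {H : Subgroup (Cfsg.SU 6 F 2)} (hH : H ≤ flag (F := F)) :
    Nat.card ↥(H.map π) = Nat.card ↥H :=
  (Nat.card_eq_of_bijective (fun g : ↥H => (⟨π g.1, Subgroup.mem_map_of_mem _ g.2⟩ : ↥(H.map π)))
    ⟨fun a b e => Subtype.ext (pi_injOn hF (hH a.2) (hH b.2) (congrArg Subtype.val e)), fun y => by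
      obtain ⟨g, hg, e⟩ := y.2
      exact ⟨⟨g, hg⟩, Subtype.ext e⟩⟩).symm

theorem card_stab' : Nat.card ↥K.stab = 20643840 := by
  rw [stab, K.card_comap]
  have hle := center_le_stab hF
  let ψ := (QuotientGroup.mk' (Subgroup.center (Cfsg.SU 6 F 2))).comp (stabPlane (F := F)).subtype
  have hr : ψ.range = (stabPlane (F := F)).map π := by
    rw [MonoidHom.range_comp, Subgroup.range_subtype]
  have hk : ψ.ker = (Subgroup.center (Cfsg.SU 6 F 2)).subgroupOf stabPlane := by
    rw [← MonoidHom.comap_ker, QuotientGroup.ker_mk']; rfl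
  have h := Subgroup.card_eq_card_quotient_mul_card_subgroup ψ.ker
  rw [Nat.card_congr (QuotientGroup.quotientKerEquivRange ψ).toEquiv, hr, hk,
    Nat.card_congr (Subgroup.subgroupOfEquivOfLe hle).toEquiv, card_center hF, card_stab hF] at h
  have key : ∀ x : ℕ, 30965760 = x * 3 → 2 * x = 20643840 := fun x hx => by omega
  exact key _ h

include hω

theorem card_base : Nat.card ↥K.base = 1024 := by
  rw [base, K.card_comap, card_map_pi hF (fixPlane_le_flag hF), card_fixPlane hF hω]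

theorem card_syl : Nat.card ↥K.syl = 65536 := by
  rw [syl, K.card_comap, card_map_pi hF le_rfl, card_flag hF hω]

include K in
theorem card_C : Nat.card C = 65536 * 280665 := by
  have h1 : Nat.card C = 2 * Nat.card (Cfsg.PSU 6 F 2) := by
    have := K.card_comap ⊤
    rwa [Subgroup.comap_top, Subgroup.card_top, Subgroup.card_top] at this
  have h2 := Subgroup.card_eq_card_quotient_mul_card_subgroup (Subgroup.center (Cfsg.SU 6 F 2))
  rw [card_center hF, card_SU hF] at h2
  change _ = Nat.card (Cfsg.PSU 6 F 2) * 3 at h2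
  omega

theorem syl_sylow : ∃ P : Sylow 2 C, (P : Subgroup C) = K.syl := by
  haveI : Fact (Nat.Prime 2) := ⟨Nat.prime_two⟩
  have hf : (Nat.card C).factorization 2 = 16 := by
    rw [K.card_C hF hω, show (65536 : ℕ) = 2 ^ 16 from rfl,
      Nat.factorization_mul (by norm_num) (by norm_num), Nat.Prime.factorization_pow Nat.prime_two]
    simp [Nat.factorization_eq_zero_of_not_dvd]
  exact ⟨Sylow.ofCard K.syl (by rw [hf, K.card_syl hF hω]; rfl), rfl⟩

omit hω

theorem syl_le : K.syl ≤ K.stab := Subgroup.comap_mono (Subgroup.map_mono (flag_le hF))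

theorem base_le_syl : K.base ≤ K.syl := Subgroup.comap_mono (Subgroup.map_mono (fixPlane_le_flag hF))

theorem z_mem_base : K.z ∈ K.base := ⟨1, one_mem _, by rw [map_one, K.phi_z]⟩

theorem base_conj {x m : C} (hx : x ∈ K.base) (hm : m ∈ K.stab) : m * x * m⁻¹ ∈ K.base := by
  obtain ⟨q, hq, eq⟩ := hx
  obtain ⟨g, hg, eg⟩ := hm
  exact ⟨g * q * g⁻¹, fixPlane_conj hq hg, by rw [map_mul, map_mul, map_inv, map_mul, map_mul, map_inv, eg, eq]⟩

include hω

/-- The lifts of the transvections centred in the plane, and the kernel, generate `A₀`. -/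
theorem base_le_closure {Y : Subgroup C} (hz : K.z ∈ Y)
    (hY : ∀ a : Fin 3 → F, ∃ y ∈ Y, K.φ y = π (tv hF (emb a))) : K.base ≤ Y := by
  intro x hx
  obtain ⟨q, hq, eq⟩ := hx
  obtain ⟨y, hy, hyx⟩ : π q ∈ Y.map K.φ := by
    have ht : ∀ a, π (tv hF (emb a)) ∈ Y.map K.φ := fun a => by
      obtain ⟨y, hy, e⟩ := hY a
      exact ⟨y, hy, e⟩
    by_cases h1 : q = 1
    · rw [h1, map_one]; exact one_mem _
    obtain ⟨k, t, -, rfl⟩ := exists_class hF hω hq h1
    match k with
    | 0 => exact ht _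
    | 1 => simp only [cel, map_mul]; exact mul_mem (ht _) (ht _)
    | 2 => simp only [cel, map_mul]; exact mul_mem (mul_mem (ht _) (ht _)) (ht _)
  rcases K.same_image (hyx.trans eq) with rfl | rfl
  exacts [hy, mul_mem hz hy]

theorem base_elementary : (∀ x ∈ K.base, ∀ y ∈ K.base, x * y = y * x) ∧ ∀ x ∈ K.base, x * x = 1 := by
  let L : Set C := {x | x ∈ K.φ.ker ∨ ∃ a : Fin 3 → F, K.φ x = π (tv hF (emb a))}
  have hle : K.base ≤ Subgroup.closure L := K.base_le_closure hF hω
    (Subgroup.subset_closure (Or.inl K.phi_z)) fun a => by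
      obtain ⟨y, hy⟩ := K.surj (π (tv hF (emb a)))
      exact ⟨y, Subgroup.subset_closure (Or.inr ⟨a, hy⟩), hy⟩
  have hc : ∀ x ∈ L, ∀ y ∈ L, x * y = y * x := by
    rintro x (hx | ⟨a, ha⟩) y hy
    · exact ((Subgroup.mem_center_iff.1 (K.ker_le_center hx)) y).symm
    rcases hy with hy | ⟨b, hb⟩
    · exact (Subgroup.mem_center_iff.1 (K.ker_le_center hy)) x
    · exact (lift_commute hF K.φ K.surj K.ker_le_center (hh_emb_emb a a) (hh_emb_emb b b) (hh_emb_emb a b) ha hb).eq
  have h2 : ∀ x ∈ L, x * x = 1 := by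
    rintro x (hx | ⟨a, ha⟩)
    · exact K.ker_sq x hx
    · exact lift_sq hF K.φ K.surj K.ker_le_center K.ker_sq (hh_emb_emb a a) ha
  have hcc : ∀ x ∈ Subgroup.closure L, ∀ y ∈ Subgroup.closure L, x * y = y * x := fun x hx y hy =>
    ((CfsgLib.ThreeT.Prod.commute_of_closure (fun b hb => (CfsgLib.ThreeT.Prod.commute_of_closure
      (fun a ha => hc a ha b hb) x hx).symm) y hy).symm).eq
  refine ⟨fun x hx y hy => hcc x (hle hx) y (hle hy), fun x hx => ?_⟩
  have : ∀ w ∈ Subgroup.closure L, w * w = 1 := by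
    intro w hw
    induction hw using Subgroup.closure_induction with
    | mem y hy => exact h2 y hy
    | one => exact one_mul 1
    | mul u v hu hv hu2 hv2 =>
      rw [← pow_two, (show Commute u v from hcc u hu v hv).mul_pow, pow_two, pow_two, hu2, hv2, one_mul]
    | inv u _ hu => rw [← _root_.mul_inv_rev, hu, inv_one]
  exact this x (hle hx)

/-- Elementary abelian subgroups of the stabiliser have order at most 1024, with equality only for `A₀`. -/
theorem elementary_le {B : Subgroup C} (hB : B ≤ K.stab) (hc : ∀ a ∈ B, ∀ b ∈ B, a * b = b * a)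
    (h2 : ∀ a ∈ B, a * a = 1) : Nat.card ↥B ≤ 1024 ∧ (1024 ≤ Nat.card ↥B → B = K.base) := by
  have hbase := K.card_base hF hω
  suffices h : B ≤ K.base ∨ Nat.card ↥B ≤ 512 by
    rcases h with h | h
    · exact ⟨hbase ▸ Subgroup.card_le_of_le h, fun h' => Subgroup.eq_of_le_of_card_ge h (by rw [hbase]; exact h')⟩
    · exact ⟨by omega, fun h' => by omega⟩
  let B' : Subgroup (Cfsg.SU 6 F 2) :=
    { carrier := {g | g * g = 1 ∧ π g ∈ B.map K.φ}
      one_mem' := ⟨one_mul 1, by rw [map_one]; exact one_mem _⟩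
      mul_mem' := by
        rintro g h ⟨g2, hg⟩ ⟨h2', hh'⟩
        have hcm : Commute g h := (pi_commute_iff hF g2 h2').1 (by
          obtain ⟨a, ha, ea⟩ := hg
          obtain ⟨b, hb, eb⟩ := hh'
          show π g * π h = π h * π g
          rw [← ea, ← eb, ← map_mul, ← map_mul, hc a ha b hb])
        exact ⟨by rw [hcm.symm.mul_mul_mul_comm, g2, h2', one_mul], by rw [map_mul]; exact mul_mem hg hh'⟩
      inv_mem' := by
        rintro g ⟨g2, hg⟩
        exact ⟨by rw [← _root_.mul_inv_rev, g2, inv_one], by rw [map_inv]; exact inv_mem hg⟩ }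
  have hB' : B' ≤ stabPlane := fun g hg => by
    obtain ⟨b, hb, eb⟩ := hg.2
    obtain ⟨g₁, hg₁, e₁⟩ := hB hb
    rw [show g = g₁ * (g₁⁻¹ * g) by group]
    exact mul_mem hg₁ (center_le_stab hF (QuotientGroup.eq.1 (e₁.trans eb)))
  have hlift : ∀ b ∈ B, ∃ g ∈ B', π g = K.φ b := fun b hb => by
    obtain ⟨g, hg, e⟩ := lift_invol hF (x := K.φ b) (by rw [← map_mul, h2 b hb, map_one])
    exact ⟨g, ⟨hg, b, hb, e.symm⟩, e⟩
  by_cases hQ : B' ≤ fixPlane
  · left
    intro b hb
    obtain ⟨g, hg, e⟩ := hlift b hb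
    exact ⟨g, hQ hg, e⟩
  right
  have h256 := card_le_of_stab hF hB' (fun a ha b hb =>
    ((pi_commute_iff hF ha.1 hb.1).1 (by
      obtain ⟨x, hx, ex⟩ := ha.2
      obtain ⟨y, hy, ey⟩ := hb.2
      show π a * π b = π b * π a
      rw [← ex, ← ey, ← map_mul, ← map_mul, hc x hx y hy])).eq) (fun a ha => ha.1) hQ
  have h1 : Nat.card ↥B ≤ Nat.card ↥((B.map K.φ).comap K.φ) := Subgroup.card_le_of_le (Subgroup.le_comap_map _ _)
  rw [K.card_comap] at h1
  have h3 : Nat.card ↥(B.map K.φ) ≤ Nat.card ↥B' := by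
    choose f hf1 hf2 using fun y : ↥(B.map K.φ) => (by
      obtain ⟨b, hb, e⟩ := y.2
      obtain ⟨g, hg, e'⟩ := hlift b hb
      exact ⟨g, hg, e'.trans e⟩ : ∃ g, g ∈ B' ∧ π g = y.1)
    exact Nat.card_le_card_of_injective (fun y => (⟨f y, hf1 y⟩ : ↥B')) fun a b e => Subtype.ext (by
      rw [← hf2 a, ← hf2 b, show f a = f b from congrArg Subtype.val e])
  omega

/-- Every elementary abelian subgroup has order at most 1024, and those of that order are conjugate to `A₀`. -/
theorem elementary_conj {B : Subgroup C} (hc : ∀ a ∈ B, ∀ b ∈ B, a * b = b * a)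
    (h2 : ∀ a ∈ B, a * a = 1) :
    Nat.card ↥B ≤ 1024 ∧ (1024 ≤ Nat.card ↥B → ∃ c : C, B.map (MulAut.conj c).toMonoidHom = K.base) := by
  haveI : Fact (Nat.Prime 2) := ⟨Nat.prime_two⟩
  obtain ⟨P, hP⟩ := K.syl_sylow hF hω
  have hB : IsPGroup 2 ↥B := fun g => ⟨1, Subtype.ext (by
    show (g : C) ^ (2 ^ 1) = 1
    rw [pow_one, pow_two, h2 _ g.2])⟩
  obtain ⟨Q, hQ⟩ := hB.exists_le_sylow
  obtain ⟨c, hc'⟩ := MulAction.exists_smul_eq C Q P
  set B₁ := B.map (MulAut.conj c).toMonoidHom with hB₁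
  have hle : B₁ ≤ K.stab := by
    rintro _ ⟨b, hb, rfl⟩
    refine K.syl_le hF ?_
    rw [← hP, ← hc']
    exact Subgroup.smul_mem_pointwise_smul b (MulAut.conj c) _ (hQ hb)
  have hcard : Nat.card ↥B₁ = Nat.card ↥B := by
    rw [hB₁, Subgroup.card_map_of_injective (MulAut.conj c).injective]
  obtain ⟨h, h'⟩ := K.elementary_le hF hω hle
    (by rintro _ ⟨a, ha, rfl⟩ _ ⟨b, hb, rfl⟩; rw [← map_mul, ← map_mul, hc a ha b hb])
    (by rintro _ ⟨a, ha, rfl⟩; rw [← map_mul, h2 a ha, map_one])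
  rw [hcard] at h h'
  exact ⟨h, fun hge => ⟨c, h' hge⟩⟩

/-- Every involution is conjugate into `A₀`. -/
theorem invol_into_base {x : C} (hx : x * x = 1) : ∃ c : C, c * x * c⁻¹ ∈ K.base := by
  obtain ⟨g, hg, e⟩ := lift_invol hF (x := K.φ x) (by rw [← map_mul, hx, map_one])
  obtain ⟨s, hs⟩ := invol_conj hF hg
  obtain ⟨c, hc⟩ := K.surj (π s⁻¹)
  exact ⟨c, s⁻¹ * g * s, hs, by rw [map_mul, map_mul, map_mul, map_mul, map_inv, map_inv, hc, map_inv, inv_inv, e]⟩

/-- `A₀` is its own centraliser. -/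
theorem centralizer_base {x : C} (hx : ∀ a ∈ K.base, x * a = a * x) : x ∈ K.base := by
  obtain ⟨g, hg⟩ := QuotientGroup.mk'_surjective _ (K.φ x)
  obtain ⟨w, hw, hwg⟩ := centralizer_fixPlane hF (g := g) fun a => by
    obtain ⟨y, hy⟩ := K.surj (π (tv hF (emb a)))
    have hyb : y ∈ K.base := ⟨_, (isTr_tv hF a).mem, hy.symm⟩
    show π g * π _ = π _ * π g
    rw [hg, ← hy, ← map_mul, ← map_mul, hx y hyb]
  exact ⟨w * g, hwg, by rw [map_mul, hg, show π w = 1 from (QuotientGroup.eq_one_iff _).2 hw, one_mul]⟩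

/-- A lift of a transvection is not conjugate to its product with the central involution. -/
theorem separation {x c : C} {u : Fin 6 → F} (hu : IsPt u) (hx : K.φ x = π (tv hF u)) :
    c * x * c⁻¹ ≠ K.z * x := by
  intro h
  set t := π (tv hF u)
  have hct : Commute (K.φ c) t := by
    have := congrArg K.φ h
    rw [map_mul, map_mul, map_inv, map_mul, K.phi_z, one_mul, hx] at this
    exact mul_inv_eq_iff_eq_mul.1 this
  have ht : t ∈ tvSet hF := ⟨u, hu, rfl⟩
  have hmem := centralizer_gen hF ht hct fun y hy w hw h1 h2 => tvSet_far_trans hF ht hy hw h1 h2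
  have hle : Subgroup.closure {w | w ∈ tvSet hF ∧ Commute t w} ≤
      (Subgroup.centralizer ({x} : Set C)).map K.φ := by
    rw [Subgroup.closure_le]
    rintro _ ⟨⟨v, hv, rfl⟩, hcm⟩
    obtain ⟨y, hy⟩ := K.surj (π (tv hF v))
    refine ⟨y, Subgroup.mem_centralizer_singleton_iff.2 ?_, hy⟩
    exact (lift_commute hF K.φ K.surj K.ker_le_center hu.2 hv.2 ((comm_pi hF hu hv).1 hcm) hx hy).eq.symm
  obtain ⟨y, hy, hyc⟩ := hle hmem
  have hy' : y * x = x * y := Subgroup.mem_centralizer_singleton_iff.1 hy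
  have hcx : c * x = x * c := by
    rcases K.same_image hyc with rfl | rfl
    · exact hy'
    · rw [mul_assoc, hy', ← mul_assoc, K.central x, mul_assoc]
  rw [hcx, mul_inv_cancel_right] at h
  exact K.z_ne (mul_eq_right.1 h.symm)

end Cov

end CfsgLib.SixPlane
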