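import Cfsg.Agent.SixPlane.Forms

/-!
Products of three commuting transvections, the flag subgroup of order `2 ^ 15`, involutions, and centralisers.
-/

set_option autoImplicit false
set_option linter.unusedSectionVars false
set_option linter.style.haveILetI false

namespace CfsgLib.SixPlane

open Matrix CfsgLib.Unitary CfsgLib.ThreeT CfsgLib.ThreeT.SixTwo

variable {F : Type} [Field F] [CharP F 2] [Finite F] (hF : Nat.card F = 2 ^ 2) {ω : F}
  (hω : ω ^ 2 = ω + 1)

local notation "hh" => Cfsg.hermForm 6 F 2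
local notation "π" => QuotientGroup.mk' (Subgroup.center (Cfsg.SU 6 F 2))

/-- The standard basis of the plane. -/
def bu (i : Fin 3) : Fin 6 → F := emb (Pi.single i 1)

/-- The second dual vector. -/
def dd1 (ω : F) : Fin 6 → F := ![0, 0, ω, ω ^ 2, 0, 0]

/-- The third dual vector. -/
def dd2 (ω : F) : Fin 6 → F := ![0, 0, 0, 0, ω, ω ^ 2]

theorem emb_expand (a : Fin 3 → F) : emb a = a 0 • bu 0 + a 1 • bu 1 + a 2 • bu 2 := by
  funext i; fin_cases i <;> simp [emb, bu]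

theorem hh_bu (i j : Fin 3) : hh (bu (F := F) i) (bu j) = 0 := hh_emb_emb _ _

include hF in
theorem quad (a : F) : (a ^ 2) ^ 2 = a := by
  by_cases ha : a = 0
  · simp [ha]
  · linear_combination a * SixTwo.pow_three hF ha

/-- The product of three commuting transvections. -/
noncomputable def el (v w : Fin 6 → F) : Cfsg.SU 6 F 2 := tv hF v * tv hF w * tv hF (v + w)

/-- The pieces of the flag group. -/
noncomputable def e12 (ω a : F) : Cfsg.SU 6 F 2 := el hF (bu 0) (a • dd1 ω)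

/-- The pieces of the flag group. -/
noncomputable def l2 (ω b c : F) : Cfsg.SU 6 F 2 := el hF (bu 0) (b • dd2 ω) * el hF (bu 1) (c • dd2 ω)

include hF

theorem el_apply {v w : Fin 6 → F} (hv : hh v v = 0) (hw : hh w w = 0) (h : hh v w = 0) (x : Fin 6 → F) :
    suMat (el hF v w) *ᵥ x = x + hh x w • v + hh x v • w := by
  have h' := (hh_comm hF).1 h
  have hs : hh (v + w) (v + w) = 0 := by
    simp [herm_add_left, hh_add_right hF, hv, hw, h, h']
  rw [el, suMat_mul, ← Matrix.mulVec_mulVec, tv_apply hF hs, tv_mul_apply hF hv hw]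
  simp only [herm_add_left, herm_smul_left, hh_add_right hF, hv, hw, h, h', mul_zero, add_zero]
  funext i
  simp only [Pi.add_apply, Pi.smul_apply, smul_eq_mul]
  linear_combination (hh x v * v i + hh x w * w i) * CharTwo.two_eq_zero (R := F)

theorem hh_smul_zero {v w : Fin 6 → F} (h : hh v w = 0) (a b : F) : hh (a • v) (b • w) = 0 := by
  rw [herm_smul_left, herm_smul_right hF, h, mul_zero, mul_zero]

theorem el_add_right {v w w' : Fin 6 → F} (hv : hh v v = 0) (hw : hh w w = 0) (hw' : hh w' w' = 0)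
    (h : hh v w = 0) (h' : hh v w' = 0) (hww : hh w w' = 0) :
    el hF v (w + w') = el hF v w * el hF v w' := by
  refine su_ext fun x => ?_
  rw [suMat_mul, ← Matrix.mulVec_mulVec, el_apply hF hv hw' h', el_apply hF hv hw h,
    el_apply hF hv (by simp [herm_add_left, hh_add_right hF, hw, hw', hww, (hh_comm hF).1 hww])
      (by rw [hh_add_right hF, h, h', add_zero])]
  simp only [herm_add_left, herm_smul_left, hh_add_right hF, hv, h, (hh_comm hF).1 h', (hh_comm hF).1 hww,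
    mul_zero, add_zero, smul_add, add_smul]
  abel

theorem el_add_left {v v' w : Fin 6 → F} (hv : hh v v = 0) (hv' : hh v' v' = 0) (hw : hh w w = 0)
    (h : hh v w = 0) (h' : hh v' w = 0) (hvv : hh v v' = 0) :
    el hF (v + v') w = el hF v w * el hF v' w := by
  refine su_ext fun x => ?_
  rw [suMat_mul, ← Matrix.mulVec_mulVec, el_apply hF hv' hw h', el_apply hF hv hw h,
    el_apply hF (by simp [herm_add_left, hh_add_right hF, hv, hv', hvv, (hh_comm hF).1 hvv]) hw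
      (by rw [herm_add_left, h, h', add_zero])]
  simp only [herm_add_left, herm_smul_left, hh_add_right hF, h', hw, (hh_comm hF).1 h, (hh_comm hF).1 hvv,
    mul_zero, add_zero, smul_add, add_smul]
  abel

theorem el_scale {v w : Fin 6 → F} (hv : hh v v = 0) (hw : hh w w = 0) (h : hh v w = 0) (a : F) :
    el hF (a ^ 2 • v) w = el hF v (a • w) := by
  refine su_ext fun x => ?_
  rw [el_apply hF (hh_smul_zero hF hv _ _) hw (by rw [herm_smul_left, h, mul_zero]),
    el_apply hF hv (hh_smul_zero hF hw _ _) (by rw [herm_smul_right hF, h, mul_zero]),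
    herm_smul_right hF, herm_smul_right hF, smul_smul, smul_smul, quad hF a]
  match_scalars <;> ring

include hω

theorem duals : hh (dd1 ω) (dd1 ω) = 0 ∧ hh (dd2 ω) (dd2 ω) = 0 ∧ hh (dd1 ω) (dd2 ω) = 0 ∧
    hh (bu 0) (dd1 ω) = 0 ∧ hh (bu 0) (dd2 ω) = 0 ∧ hh (bu 1) (dd2 ω) = 0 ∧
    hh (bu 1) (dd1 ω) = 1 ∧ hh (bu 2) (dd2 ω) = 1 ∧ hh (bu 2) (dd1 ω) = 0 := by
  have e2 : (2 : F) = 0 := CharTwo.two_eq_zero
  refine ⟨?_, ?_, ?_, ?_, ?_, ?_, ?_, ?_, ?_⟩ <;>
    simp [bu, emb, dd1, dd2, Cfsg.hermForm, Fin.sum_univ_six] <;> grind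

theorem e12_apply (a : F) (x : Fin 6 → F) :
    suMat (e12 hF ω a) *ᵥ x = x + (a ^ 2 * hh x (dd1 ω)) • bu 0 + (a * hh x (bu 0)) • dd1 ω := by
  obtain ⟨h11, -, -, h01, -⟩ := duals hF hω
  rw [e12, el_apply hF (hh_bu _ _) (hh_smul_zero hF h11 _ _) (by rw [herm_smul_right hF, h01, mul_zero]),
    herm_smul_right hF, smul_smul, mul_comm (hh x (bu 0)) a]

theorem l2_apply (b c : F) (x : Fin 6 → F) : suMat (l2 hF ω b c) *ᵥ x =
    x + (b ^ 2 * hh x (dd2 ω)) • bu 0 + (c ^ 2 * hh x (dd2 ω)) • bu 1 +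
      (b * hh x (bu 0) + c * hh x (bu 1)) • dd2 ω := by
  obtain ⟨-, h22, -, -, h02, h12, -⟩ := duals hF hω
  rw [l2, suMat_mul, ← Matrix.mulVec_mulVec,
    el_apply hF (hh_bu 1 1) (hh_smul_zero hF h22 c c) (by rw [herm_smul_right hF, h12, mul_zero]),
    el_apply hF (hh_bu 0 0) (hh_smul_zero hF h22 b b) (by rw [herm_smul_right hF, h02, mul_zero])]
  simp only [herm_add_left, herm_smul_left, herm_smul_right hF, hh_bu, h22, h12, (hh_comm hF).1 h02,
    mul_zero, add_zero]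
  match_scalars <;> ring

theorem e12_bu (a : F) : suMat (e12 hF ω a) *ᵥ bu 0 = bu 0 ∧
    suMat (e12 hF ω a) *ᵥ bu 1 = bu 1 + a ^ 2 • bu 0 ∧ suMat (e12 hF ω a) *ᵥ bu 2 = bu 2 ∧
    suMat (e12 hF ω a) *ᵥ dd2 ω = dd2 ω := by
  obtain ⟨-, -, h12', h01, h02, -, h11, -, h21⟩ := duals hF hω
  refine ⟨?_, ?_, ?_, ?_⟩ <;> rw [e12_apply hF hω]
  · simp [h01, hh_bu]
  · simp [h11, hh_bu]
  · simp [h21, hh_bu]
  · simp [(hh_comm hF).1 h12', (hh_comm hF).1 h02]

theorem l2_bu (b c : F) : suMat (l2 hF ω b c) *ᵥ bu 0 = bu 0 ∧ suMat (l2 hF ω b c) *ᵥ bu 1 = bu 1 ∧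
    suMat (l2 hF ω b c) *ᵥ bu 2 = bu 2 + (b ^ 2 • bu 0 + c ^ 2 • bu 1) := by
  obtain ⟨-, -, -, -, h02, h12, -, h22, -⟩ := duals hF hω
  refine ⟨?_, ?_, ?_⟩ <;> rw [l2_apply hF hω]
  · simp [h02, hh_bu]
  · simp [h12, hh_bu]
  · simp [h22, hh_bu, add_assoc]

theorem e12_add (a a' : F) : e12 hF ω (a + a') = e12 hF ω a * e12 hF ω a' := by
  obtain ⟨h11, -, -, h01, -⟩ := duals hF hω
  rw [e12, add_smul, el_add_right hF (hh_bu _ _) (hh_smul_zero hF h11 _ _) (hh_smul_zero hF h11 _ _)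
    (by rw [herm_smul_right hF, h01, mul_zero]) (by rw [herm_smul_right hF, h01, mul_zero])
    (hh_smul_zero hF h11 _ _)]
  rfl

theorem l2_add (b c b' c' : F) : l2 hF ω (b + b') (c + c') = l2 hF ω b c * l2 hF ω b' c' := by
  obtain ⟨-, h22, -, -, h02, h12, -⟩ := duals hF hω
  refine su_ext fun x => ?_
  rw [suMat_mul, ← Matrix.mulVec_mulVec, l2_apply hF hω, l2_apply hF hω, l2_apply hF hω]
  simp only [herm_add_left, herm_smul_left, hh_bu, h22, (hh_comm hF).1 h02, (hh_comm hF).1 h12, h02, h12,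
    mul_zero, add_zero, CharTwo.add_sq]
  match_scalars <;> ring

theorem e12_l2 (a b c : F) : e12 hF ω a * l2 hF ω b c * (e12 hF ω a)⁻¹ = l2 hF ω (b + a * c) c := by
  obtain ⟨-, h22, -, -, h02, h12, -⟩ := duals hF hω
  obtain ⟨g0, g1, -, gd⟩ := e12_bu hF hω a
  have conj : ∀ v w : Fin 6 → F, hh v v = 0 → hh w w = 0 → hh v w = 0 →
      e12 hF ω a * el hF v w * (e12 hF ω a)⁻¹ =
        el hF (suMat (e12 hF ω a) *ᵥ v) (suMat (e12 hF ω a) *ᵥ w) := fun v w hv hw h => by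
    simp only [el, conj_mul.symm]
    rw [tv_conj hF _ hv, tv_conj hF _ hw, tv_conj hF _ (by
      simp [herm_add_left, hh_add_right hF, hv, hw, h, (hh_comm hF).1 h]), Matrix.mulVec_add]
  have hd : ∀ e : F, hh (e • dd2 ω) (e • dd2 ω) = 0 := fun e => hh_smul_zero hF h22 _ _
  have h1c : hh (bu 1) (c • dd2 ω) = 0 := by rw [herm_smul_right hF, h12, mul_zero]
  have h0 : ∀ e : F, hh (bu 0) (e • dd2 ω) = 0 := fun e => by rw [herm_smul_right hF, h02, mul_zero]
  rw [l2, ← conj_mul, conj _ _ (hh_bu _ _) (hd b) (h0 b), conj _ _ (hh_bu _ _) (hd c) h1c, g0,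
    Matrix.mulVec_smul, Matrix.mulVec_smul, gd, g1,
    el_add_left hF (hh_bu _ _) (hh_smul_zero hF (hh_bu _ _) _ _) (hd c) h1c
      (by rw [herm_smul_left, h0, mul_zero]) (by rw [herm_smul_right hF, hh_bu, mul_zero]),
    el_scale hF (hh_bu _ _) (hd c) (h0 c), smul_smul, l2, add_smul,
    el_add_right hF (hh_bu _ _) (hd b) (hd _) (h0 _) (h0 _) (hh_smul_zero hF h22 _ _)]
  have hcm : el hF (bu 1) (c • dd2 ω) * el hF (bu 0) ((a * c) • dd2 ω) =
      el hF (bu 0) ((a * c) • dd2 ω) * el hF (bu 1) (c • dd2 ω) := by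
    refine su_ext fun x => ?_
    rw [suMat_mul, suMat_mul, ← Matrix.mulVec_mulVec, ← Matrix.mulVec_mulVec,
      el_apply hF (hh_bu _ _) (hd _) h1c, el_apply hF (hh_bu _ _) (hd _) (h0 _),
      el_apply hF (hh_bu _ _) (hd _) h1c, el_apply hF (hh_bu _ _) (hd _) (h0 _)]
    simp only [herm_add_left, herm_smul_left, hh_bu, herm_smul_right hF, h22, (hh_comm hF).1 h02,
      (hh_comm hF).1 h12, h02, h12, mul_zero, add_zero]
    abel
  rw [hcm, mul_assoc]

omit hω

/-- The unipotent stabiliser of the standard flag. -/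
noncomputable def flag : Subgroup (Cfsg.SU 6 F 2) where
  carrier := {g | ∃ A B C : F, suMat g *ᵥ bu 0 = bu 0 ∧ suMat g *ᵥ bu 1 = bu 1 + A • bu 0 ∧
    suMat g *ᵥ bu 2 = bu 2 + B • bu 0 + C • bu 1}
  one_mem' := ⟨0, 0, 0, by simp [suMat_one], by simp [suMat_one], by simp [suMat_one]⟩
  mul_mem' := by
    rintro g h ⟨A, B, C, a0, a1, a2⟩ ⟨A', B', C', b0, b1, b2⟩
    refine ⟨A + A', B + B' + C' * A, C + C', ?_, ?_, ?_⟩ <;>
      simp only [suMat_mul, ← Matrix.mulVec_mulVec, b0, b1, b2, Matrix.mulVec_add, Matrix.mulVec_smul, a0, a1,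
        a2] <;> module
  inv_mem' := by
    rintro g ⟨A, B, C, a0, a1, a2⟩
    have c0 : suMat g⁻¹ *ᵥ bu 0 = bu 0 := by
      conv_lhs => rw [← a0]
      rw [su_inv_mulVec]
    have c1 : suMat g⁻¹ *ᵥ bu 1 = bu 1 + (-A) • bu 0 := by
      have := congrArg (suMat g⁻¹ *ᵥ ·) a1
      simp only [su_inv_mulVec, Matrix.mulVec_add, Matrix.mulVec_smul, c0] at this
      rw [eq_sub_of_add_eq this.symm]; module
    refine ⟨-A, -B + C * A, -C, c0, c1, ?_⟩
    have := congrArg (suMat g⁻¹ *ᵥ ·) a2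
    simp only [su_inv_mulVec, Matrix.mulVec_add, Matrix.mulVec_smul, c0, c1, add_assoc] at this
    rw [eq_sub_of_add_eq this.symm]; module

theorem flag_le : flag (F := F) ≤ stabPlane := by
  rintro g ⟨A, B, C, a0, a1, a2⟩
  refine mem_stabPlane.2 fun a => ⟨a 0 • Pi.single 0 1 + a 1 • (Pi.single 1 1 + A • Pi.single 0 1) +
    a 2 • (Pi.single 2 1 + B • Pi.single 0 1 + C • Pi.single 1 1), ?_⟩
  rw [emb_expand a]
  simp only [Matrix.mulVec_add, Matrix.mulVec_smul, a0, a1, a2, map_add, map_smul]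
  rfl

theorem fixPlane_le_flag : fixPlane (F := F) ≤ flag (F := F) := fun g hg =>
  ⟨0, 0, 0, hg _, by simpa [bu] using hg (Pi.single 1 1), by simpa [bu] using hg (Pi.single 2 1)⟩

/-- The coordinates of a flag element. -/
noncomputable def flagCo (g : ↥(flag (F := F))) : F × F :=
  (inco (suMat g.1 *ᵥ bu 1) 0, inco (suMat g.1 *ᵥ bu 2) 1)

theorem flagCo_eq {g : ↥(flag (F := F))} {A B C : F} (a1 : suMat g.1 *ᵥ bu 1 = bu 1 + A • bu 0)
    (a2 : suMat g.1 *ᵥ bu 2 = bu 2 + B • bu 0 + C • bu 1) : flagCo g = (A, C) := by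
  simp only [flagCo, a1, a2]
  simp [bu, inco_emb]

theorem flagCo_mul (g h : ↥(flag (F := F))) : flagCo (g * h) = flagCo g + flagCo h := by
  obtain ⟨A, B, C, a0, a1, a2⟩ := g.2
  obtain ⟨A', B', C', b0, b1, b2⟩ := h.2
  rw [flagCo_eq hF a1 a2, flagCo_eq hF b1 b2, flagCo_eq hF (A := A + A') (B := B + B' + C' * A) (C := C + C')]
  · rfl
  all_goals
    simp only [Subgroup.coe_mul, suMat_mul, ← Matrix.mulVec_mulVec, b1, b2, Matrix.mulVec_add,
      Matrix.mulVec_smul, a0, a1, a2]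
    module

include hω

theorem e12_mem (a : F) : e12 hF ω a ∈ flag (F := F) := by
  obtain ⟨g0, g1, g2, -⟩ := e12_bu hF hω a
  exact ⟨a ^ 2, 0, 0, g0, g1, by rw [g2]; module⟩

theorem l2_mem (b c : F) : l2 hF ω b c ∈ flag (F := F) := by
  obtain ⟨g0, g1, g2⟩ := l2_bu hF hω b c
  exact ⟨0, b ^ 2, c ^ 2, g0, by rw [g1]; module, by rw [g2]; module⟩

/-- Every flag element is a product of the standard pieces. -/
theorem flag_decomp {g : Cfsg.SU 6 F 2} (hg : g ∈ flag (F := F)) :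
    ∃ a b c, ∃ q ∈ fixPlane, g = q * (e12 hF ω a * l2 hF ω b c) := by
  obtain ⟨A, B, C, a0, a1, a2⟩ := hg
  refine ⟨A ^ 2, (B + C * A) ^ 2, C ^ 2, g * (e12 hF ω (A ^ 2) * l2 hF ω ((B + C * A) ^ 2) (C ^ 2))⁻¹, ?_,
    by rw [inv_mul_cancel_right]⟩
  obtain ⟨g0, g1, g2, -⟩ := e12_bu hF hω (A ^ 2)
  obtain ⟨h0, h1, h2⟩ := l2_bu hF hω ((B + C * A) ^ 2) (C ^ 2)
  set m := e12 hF ω (A ^ 2) * l2 hF ω ((B + C * A) ^ 2) (C ^ 2)
  have m0 : suMat g *ᵥ bu 0 = suMat m *ᵥ bu 0 := by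
    rw [suMat_mul, ← Matrix.mulVec_mulVec, h0, g0, a0]
  have m1 : suMat g *ᵥ bu 1 = suMat m *ᵥ bu 1 := by
    rw [suMat_mul, ← Matrix.mulVec_mulVec, h1, g1, a1, quad hF]
  have m2 : suMat g *ᵥ bu 2 = suMat m *ᵥ bu 2 := by
    rw [suMat_mul, ← Matrix.mulVec_mulVec, h2, Matrix.mulVec_add, Matrix.mulVec_add, Matrix.mulVec_smul,
      Matrix.mulVec_smul, g2, g0, g1, a2, quad hF, quad hF, quad hF]
    funext i
    simp only [Pi.add_apply, Pi.smul_apply, smul_eq_mul]
    linear_combination -(C * A * bu 0 i) * CharTwo.two_eq_zero (R := F)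
  have key : ∀ e, suMat g *ᵥ emb e = suMat m *ᵥ emb e := fun e => by
    rw [emb_expand e]; simp only [Matrix.mulVec_add, Matrix.mulVec_smul, m0, m1, m2]
  intro e
  obtain ⟨e', he'⟩ := mem_stabPlane.1 (inv_mem (flag_le hF (show m ∈ flag (F := F) from
    mul_mem (e12_mem hF hω _) (l2_mem hF hω _ _)))) e
  rw [suMat_mul, ← Matrix.mulVec_mulVec, he', key, ← he']
  have := su_inv_mulVec m⁻¹ (emb e)
  rwa [inv_inv] at this

theorem decomp_inj {a b c a' b' c' : F} {q q' : Cfsg.SU 6 F 2} (hq : q ∈ fixPlane) (hq' : q' ∈ fixPlane)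
    (e : q * (e12 hF ω a * l2 hF ω b c) = q' * (e12 hF ω a' * l2 hF ω b' c')) :
    q = q' ∧ a = a' ∧ b = b' ∧ c = c' := by
  have key : ∀ (r : Cfsg.SU 6 F 2) (x y z : F), r ∈ fixPlane →
      suMat (r * (e12 hF ω x * l2 hF ω y z)) *ᵥ bu 1 = bu 1 + x ^ 2 • bu 0 ∧
      suMat (r * (e12 hF ω x * l2 hF ω y z)) *ᵥ bu 2 =
        bu 2 + (y ^ 2 + z ^ 2 * x ^ 2) • bu 0 + z ^ 2 • bu 1 := fun r x y z hr => by
    obtain ⟨g0, g1, g2, -⟩ := e12_bu hF hω x
    obtain ⟨h0, h1, h2⟩ := l2_bu hF hω y z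
    have r' : ∀ i, suMat r *ᵥ bu i = bu i := fun i => hr _
    constructor
    · rw [suMat_mul, suMat_mul, ← Matrix.mulVec_mulVec, ← Matrix.mulVec_mulVec, h1, g1]
      simp only [Matrix.mulVec_add, Matrix.mulVec_smul, r']
    · rw [suMat_mul, suMat_mul, ← Matrix.mulVec_mulVec, ← Matrix.mulVec_mulVec, h2]
      simp only [Matrix.mulVec_add, Matrix.mulVec_smul, g0, g1, g2, r']
      module
  obtain ⟨k1, k2⟩ := key q a b c hq
  obtain ⟨k1', k2'⟩ := key q' a' b' c' hq'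
  rw [e] at k1 k2
  have i1 := congrArg (fun v => inco v 0) (k1.symm.trans k1')
  have i2 := congrArg (fun v => inco v 0) (k2.symm.trans k2')
  have i3 := congrArg (fun v => inco v 1) (k2.symm.trans k2')
  simp [bu, inco_emb] at i1 i2 i3
  have sq : ∀ {u v : F}, u ^ 2 = v ^ 2 → u = v := fun {u v} h => by rw [← quad hF u, h, quad hF]
  obtain rfl := sq i1
  obtain rfl := sq i3
  obtain rfl := sq (add_right_cancel i2)
  exact ⟨mul_right_cancel e, rfl, rfl, rfl⟩

theorem card_flag : Nat.card ↥(flag (F := F)) = 32768 := by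
  have hmem : ∀ (q : ↥(fixPlane (F := F))) (a b c : F), q.1 * (e12 hF ω a * l2 hF ω b c) ∈ flag (F := F) :=
    fun q a b c => mul_mem (fixPlane_le_flag hF q.2) (mul_mem (e12_mem hF hω _) (l2_mem hF hω _ _))
  refine (Nat.card_eq_of_bijective (fun p : ↥(fixPlane (F := F)) × F × F × F =>
    (⟨_, hmem p.1 p.2.1 p.2.2.1 p.2.2.2⟩ : ↥(flag (F := F)))) ⟨?_, fun g => ?_⟩).symm.trans ?_
  · rintro ⟨q, a, b, c⟩ ⟨q', a', b', c'⟩ e
    obtain ⟨e0, rfl, rfl, rfl⟩ := decomp_inj hF hω q.2 q'.2 (congrArg Subtype.val e)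
    obtain rfl := Subtype.ext e0
    rfl
  · obtain ⟨a, b, c, q, hq, e⟩ := flag_decomp hF hω g.2
    exact ⟨⟨⟨q, hq⟩, a, b, c⟩, Subtype.ext e.symm⟩
  · rw [Nat.card_prod, Nat.card_prod, Nat.card_prod, card_fixPlane hF hω, hF]
    norm_num

omit hω

theorem card_SU : Nat.card (Cfsg.SU 6 F 2) = 32768 * (891 * 945) := by
  have h := card_SU_mul hF (n := 6) (by norm_num)
  rw [card_GU hF] at h
  norm_num [Finset.prod_range_succ] at h
  omega

theorem card_stab : Nat.card ↥(stabPlane (F := F)) = 30965760 := by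
  have hW : Module.finrank F (LinearMap.range (emb (F := F))) = 3 := by
    rw [LinearMap.finrank_range_of_inj emb_injective, Module.finrank_pi, Fintype.card_fin]
  have h := card_stab_SU hF (n := 6) (k := 3) (by norm_num) (by norm_num)
    ⟨LinearMap.range (emb (F := F)), hW, by rintro _ ⟨a, rfl⟩ _ ⟨b, rfl⟩; exact hh_emb_emb a b⟩
  norm_num [Fin.prod_univ_three] at h
  unfold stabPlane
  omega

theorem card_center : Nat.card (Subgroup.center (Cfsg.SU 6 F 2)) = 3 := by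
  rw [card_center_SU hF (by norm_num)]; rfl

theorem center_le_stab : Subgroup.center (Cfsg.SU 6 F 2) ≤ stabPlane := fun z hz => by
  obtain ⟨a, ha⟩ := (mem_center_SU_iff hF (by norm_num)).1 hz
  exact mem_stabPlane.2 fun e => ⟨a • e, by
    show (z.1 : Matrix (Fin 6) (Fin 6) F) *ᵥ _ = _
    rw [ha, Matrix.smul_mulVec, Matrix.one_mulVec, map_smul]⟩

/-- Every involution is conjugate to one fixing the plane pointwise. -/
theorem invol_conj {g : Cfsg.SU 6 F 2} (hg : g * g = 1) :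
    ∃ s : Cfsg.SU 6 F 2, s⁻¹ * g * s ∈ fixPlane := by
  have hN := Unitary.Invol.isUDev_of_invol hF hg
  set N := Matrix.mulVecLin (suMat g - 1) with hNdef
  obtain ⟨k, hk, e, he⟩ : ∃ k ≤ 3, ∃ e : Fin k → Fin 6 → F, Unitary.Invol.IsFam (q := 2) N e := by
    refine ⟨_, ?_, Unitary.Invol.exists_fam hF hN⟩
    have hle : LinearMap.range N ≤ LinearMap.ker N := by rintro _ ⟨x, rfl⟩; exact hN.sq x
    have := Submodule.finrank_mono hle
    have h2 := LinearMap.finrank_range_add_finrank_ker N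
    rw [Module.finrank_pi, Fintype.card_fin] at h2
    omega
  have hiso := fun i j => Unitary.Invol.image_isotropic hF hN (e i) (e j)
  have hind : LinearIndependent F fun i => N (e i) := by
    rw [Fintype.linearIndependent_iff]
    intro c hc i
    have := congrArg (fun v => hh (e i) v) hc
    change hh (e i) (∑ j, c j • N (e j)) = hh (e i) 0 at this
    rw [hh_zero_right hF] at this
    have hsum : ∀ (s : Finset (Fin k)), hh (e i) (∑ j ∈ s, c j • N (e j)) = ∑ j ∈ s, c j ^ 2 * hh (e i) (N (e j)) := by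
      intro s
      induction s using Finset.induction_on with
      | empty => simp [hh_zero_right hF]
      | insert a s ha ih => rw [Finset.sum_insert ha, Finset.sum_insert ha, hh_add_right hF, herm_smul_right hF, ih]
    rw [hsum] at this
    simp only [he.dual, mul_ite, mul_one, mul_zero, Finset.sum_ite_eq, Finset.mem_univ, if_true] at this
    exact eq_zero_of_pow_eq_zero this
  have hstd : LinearIndependent F fun i : Fin 3 => bu (F := F) i := by
    have := (Pi.basisFun F (Fin 3)).linearIndependent.map' emb (LinearMap.ker_eq_bot.2 emb_injective)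
    simpa [Function.comp_def, bu] using this
  obtain ⟨G, hG⟩ := exists_GU_family hF (fun i : Fin k => bu (F := F) (Fin.castLE hk i)) (fun i => N (e i))
    (hstd.comp _ (Fin.castLE_injective hk)) hind fun i j => by rw [hh_bu, hiso]
  set M := ((G : Matrix.GeneralLinearGroup (Fin 6) F) : Matrix (Fin 6) (Fin 6) F) with hM
  have hMinj : Function.Injective (fun x => M *ᵥ x) := fun x y e => by
    have := congrArg (fun t => ((G : Matrix.GeneralLinearGroup (Fin 6) F)⁻¹).1 *ᵥ t) e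
    simpa [M, Matrix.mulVec_mulVec] using this
  obtain ⟨s, l, hl, hs⟩ := exists_move hF (fun i => M *ᵥ bu i)
    (hstd.map' (Matrix.mulVecLin M) (LinearMap.ker_eq_bot.2 hMinj)) fun i j => by
      rw [mem_GU_iff.1 G.2, hh_bu]
  set g' := s⁻¹ * g * s
  have hg' : g' * g' = 1 := by
    show s⁻¹ * g * s * (s⁻¹ * g * s) = 1
    rw [show s⁻¹ * g * s * (s⁻¹ * g * s) = s⁻¹ * (g * g) * s by group, hg, mul_one, inv_mul_cancel]
  refine ⟨s, fun a => ?_⟩
  -- the image lies in the plane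
  have hsi : ∀ i : Fin 3, ∃ b, suMat s⁻¹ *ᵥ (M *ᵥ bu i) = emb b := fun i => ⟨(l i)⁻¹ • Pi.single i 1, by
    rw [map_smul]
    have := congrArg (fun t => (l i)⁻¹ • (suMat s⁻¹ *ᵥ t)) (hs i)
    simp only [su_inv_mulVec, Matrix.mulVec_smul, smul_smul, inv_mul_cancel₀ (hl i), one_smul] at this
    exact this.symm⟩
  have him : ∀ y, ∃ b, suMat g' *ᵥ y - y = emb b := fun y => by
    have h1 : suMat g' *ᵥ y - y = suMat s⁻¹ *ᵥ N (suMat s *ᵥ y) := by
      rw [hNdef, Matrix.mulVecLin_apply, Matrix.sub_mulVec, Matrix.one_mulVec, Matrix.mulVec_sub, su_inv_mulVec,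
        suMat_mul, suMat_mul, ← Matrix.mulVec_mulVec, ← Matrix.mulVec_mulVec]
    choose b hb using hsi
    refine ⟨∑ i, hh (suMat s *ᵥ y) (N (e i)) • b (Fin.castLE hk i), ?_⟩
    rw [h1, he.expand, Matrix.mulVec_sum, map_sum]
    exact Finset.sum_congr rfl fun i _ => by rw [Matrix.mulVec_smul, map_smul, ← hb, hG i]
  have hN' := Unitary.Invol.isUDev_of_invol hF hg'
  refine sub_eq_zero.1 (uForm_nondeg hF 6 _ fun y => ?_)
  show hh y (suMat g' *ᵥ emb a - emb a) = 0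
  have := hN'.adj y (emb a)
  simp only [Matrix.mulVecLin_apply, Matrix.sub_mulVec, Matrix.one_mulVec] at this
  rw [← this]
  obtain ⟨b, hb⟩ := him y
  rw [hb, hh_emb_emb]

/-- Only scalars times the plane's group centralise that group. -/
theorem centralizer_fixPlane {g : Cfsg.SU 6 F 2}
    (hg : ∀ a : Fin 3 → F, Commute (π g) (π (tv hF (emb a)))) :
    ∃ z ∈ Subgroup.center (Cfsg.SU 6 F 2), z * g ∈ fixPlane := by
  have key : ∀ a : Fin 3 → F, a ≠ 0 → ∃ c : F, suMat g *ᵥ emb a = c • emb a := by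
    intro a ha
    have hv := isPt_emb ha
    have hgv : hh (suMat g *ᵥ emb a) (suMat g *ᵥ emb a) = 0 := by rw [su_preserves]; exact hv.2
    refine tv_eq_smul hF ⟨su_mulVec_ne_zero g hv.1, hgv⟩ hv
      (pi_inj hF (tv_sq hF hgv) (tv_sq hF hv.2) ?_)
    rw [← tv_conj hF g hv.2, map_mul, map_mul, map_inv, (hg a).eq, mul_inv_cancel_right]
  choose c hc using key
  have hne : ∀ i, (Pi.single i 1 : Fin 3 → F) ≠ 0 := fun i e => one_ne_zero (α := F) (by simpa using congrFun e i)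
  have hb : ∀ i, suMat g *ᵥ bu i = c _ (hne i) • bu i := fun i => hc _ (hne i)
  have hpair : ∀ i j, i ≠ j → c _ (hne i) = c _ (hne j) := by
    intro i j hij
    have hs : (Pi.single i 1 + Pi.single j 1 : Fin 3 → F) ≠ 0 := fun e => one_ne_zero (α := F) (by
      simpa [Pi.single_apply, hij] using congrFun e i)
    have := hc _ hs
    rw [map_add, Matrix.mulVec_add] at this
    change suMat g *ᵥ bu i + suMat g *ᵥ bu j = _ at this
    rw [hb, hb] at this
    have ei := congrArg (fun v => inco v i) this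
    have ej := congrArg (fun v => inco v j) this
    simp [bu, inco_emb, Pi.single_apply, hij, hij.symm] at ei ej
    rw [ei, ej]
  set μ := c _ (hne 0) with hμdef
  have hμ : ∀ i, suMat g *ᵥ bu i = μ • bu i := fun i => by
    rcases eq_or_ne i 0 with rfl | h
    · exact hb 0
    · rw [hb, hpair i 0 h]
  have hall : ∀ a, suMat g *ᵥ emb a = μ • emb a := fun a => by
    rw [emb_expand a]
    simp only [Matrix.mulVec_add, Matrix.mulVec_smul, hμ, smul_add, smul_comm μ]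
  have hμ0 : μ ≠ 0 := fun e => su_mulVec_ne_zero g (isPt_emb (hne 0)).1 (by
    rw [hall, e, zero_smul])
  let z : Cfsg.SU 6 F 2 := ⟨⟨(μ⁻¹ : F) • 1, by
      rw [Matrix.det_smul, Matrix.det_one, mul_one, Fintype.card_fin, show 6 = 3 * 2 from rfl, pow_mul,
        SixTwo.pow_three hF (inv_ne_zero hμ0), one_pow]⟩, fun x y => by
      show hh (((μ⁻¹ : F) • (1 : Matrix (Fin 6) (Fin 6) F)) *ᵥ x) (((μ⁻¹ : F) • 1) *ᵥ y) = hh x y
      rw [Matrix.smul_mulVec, Matrix.smul_mulVec, Matrix.one_mulVec, Matrix.one_mulVec, herm_smul_left,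
        herm_smul_right hF, ← mul_assoc, ← pow_succ', SixTwo.pow_three hF (inv_ne_zero hμ0), one_mul]⟩
  refine ⟨z, (mem_center_SU_iff hF (by norm_num)).2 ⟨μ⁻¹, rfl⟩, fun a => ?_⟩
  rw [suMat_mul, ← Matrix.mulVec_mulVec, hall]
  show ((μ⁻¹ : F) • (1 : Matrix (Fin 6) (Fin 6) F)) *ᵥ (μ • emb a) = emb a
  rw [Matrix.smul_mulVec, Matrix.one_mulVec, smul_smul, inv_mul_cancel₀ hμ0, one_smul]

end CfsgLib.SixPlane
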