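import Cfsg.Agent.SixPlane.Cover

/-!
A class of lifts of transvections, equivariant under the cover.
-/

set_option autoImplicit false
set_option linter.unusedSectionVars false
set_option linter.style.haveILetI false

namespace CfsgLib.SixPlane

open Matrix CfsgLib.Unitary CfsgLib.ThreeT CfsgLib.ThreeT.SixTwo

variable {F : Type} [Field F] [CharP F 2] [Finite F] (hF : Nat.card F = 2 ^ 2) {ω : F}
  (hω : ω ^ 2 = ω + 1) {C : Type*} [Group C] [Finite C] (K : Cov F C) {k₀ : C}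

local notation "hh" => Cfsg.hermForm 6 F 2
local notation "π" => QuotientGroup.mk' (Subgroup.center (Cfsg.SU 6 F 2))

namespace Cov

/-- The class of `k₀` over a transvection. -/
structure IsKK (k₀ : C) (v : Fin 6 → F) (y : C) : Prop where
  image : K.φ y = π (tv hF v)
  conj : ∃ c, c * k₀ * c⁻¹ = y

open Classical in
/-- The chosen lift of a transvection. -/
noncomputable def kk (k₀ : C) (v : Fin 6 → F) : C :=
  if h : ∃ y, K.IsKK hF k₀ v y then h.choose else 1

variable (hk₀ : Cov.φ K k₀ = QuotientGroup.mk' (Subgroup.center (Cfsg.SU 6 F 2)) (tv hF (bu (F := F) 0)))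

include hk₀

theorem exists_kk {v : Fin 6 → F} (hv : IsPt v) : ∃ y, K.IsKK hF k₀ v y := by
  have h0 : IsPt (bu (F := F) 0) := isPt_emb fun e => one_ne_zero (α := F) (by simpa using congrFun e 0)
  obtain ⟨g, hg⟩ := exists_SU_vec hF (by norm_num) h0.1 hv.1 h0.2 hv.2
  obtain ⟨c, hc⟩ := K.surj (π g)
  exact ⟨c * k₀ * c⁻¹, by rw [map_mul, map_mul, map_inv, hc, hk₀, ← map_inv, ← map_mul, ← map_mul,
    tv_conj hF g h0.2, hg], c, rfl⟩

theorem kk_spec {v : Fin 6 → F} (hv : IsPt v) : K.IsKK hF k₀ v (K.kk hF k₀ v) := by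
  rw [kk, dif_pos (K.exists_kk hF hk₀ hv)]
  exact (K.exists_kk hF hk₀ hv).choose_spec

omit hk₀ in
theorem kk_zero_image (k₀ : C) : K.φ (K.kk hF k₀ 0) = 1 := by
  rw [kk]
  split
  · rename_i h
    rw [h.choose_spec.image]
    have : tv hF (0 : Fin 6 → F) = 1 := su_ext fun x => by
      rw [tv_apply hF (hh_zero_left hF 0), smul_zero, add_zero, suMat_one, Matrix.one_mulVec]
    rw [this, map_one]
  · exact map_one _

include hω

theorem kk_unique {v : Fin 6 → F} (hv : IsPt v) {y : C} (hy : K.IsKK hF k₀ v y) : K.kk hF k₀ v = y := by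
  have hs := K.kk_spec hF hk₀ hv
  rcases K.same_image (hy.image.trans hs.image.symm) with e | e
  · exact e
  · exfalso
    obtain ⟨c, hc⟩ := hs.conj
    obtain ⟨c', hc'⟩ := hy.conj
    refine K.separation hF hω (c := c * c'⁻¹) hv hy.image ?_
    calc c * c'⁻¹ * y * (c * c'⁻¹)⁻¹ = c * (c'⁻¹ * y * c') * c⁻¹ := by group
      _ = c * k₀ * c⁻¹ := by rw [← hc']; group
      _ = K.z * y := by rw [hc, e]

theorem kk_base : K.kk hF k₀ (bu 0) = k₀ :=
  K.kk_unique hF hω hk₀ (isPt_emb fun e => one_ne_zero (α := F) (by simpa using congrFun e 0))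
    ⟨hk₀, 1, by group⟩

theorem kk_conj {g : Cfsg.SU 6 F 2} {x : C} (hx : K.φ x = π g) {v : Fin 6 → F} (hv : IsPt v) :
    x * K.kk hF k₀ v * x⁻¹ = K.kk hF k₀ (suMat g *ᵥ v) := by
  refine (K.kk_unique hF hω hk₀ ⟨su_mulVec_ne_zero g hv.1, by rw [su_preserves]; exact hv.2⟩ ⟨?_, ?_⟩).symm
  · rw [map_mul, map_mul, map_inv, hx, (K.kk_spec hF hk₀ hv).image, ← map_inv, ← map_mul, ← map_mul,
      tv_conj hF g hv.2]
  · obtain ⟨c, hc⟩ := (K.kk_spec hF hk₀ hv).conj
    exact ⟨x * c, by rw [← hc]; group⟩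

theorem kk_smul {v : Fin 6 → F} (hv : IsPt v) {a : F} (ha : a ≠ 0) :
    K.kk hF k₀ (a • v) = K.kk hF k₀ v :=
  K.kk_unique hF hω hk₀ ⟨smul_ne_zero ha hv.1, by
    rw [herm_smul_left, herm_smul_right hF, hv.2, mul_zero, mul_zero]⟩
    ⟨by rw [tv_smul hF hv.2 ha]; exact (K.kk_spec hF hk₀ hv).image, (K.kk_spec hF hk₀ hv).conj⟩

omit hω hk₀ in
/-- Every non-zero vector of the plane is the first vector of a basis. -/
theorem exists_basis {a : Fin 3 → F} (ha : a ≠ 0) :
    ∃ r : Fin 3 → Fin 3 → F, r 0 = a ∧ LinearIndependent F r := by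
  obtain ⟨i, hi⟩ := Function.ne_iff.1 ha
  simp only [Pi.zero_apply] at hi
  fin_cases i
  · refine ⟨![a, Pi.single 1 1, Pi.single 2 1], rfl, Fintype.linearIndependent_iff.2 fun c hc => ?_⟩
    have e0 := congrFun hc 0
    have e1 := congrFun hc 1
    have e2 := congrFun hc 2
    simp [Fin.sum_univ_three] at e0 e1 e2
    rcases e0 with h | h
    · intro j; fin_cases j <;> simp_all
    · exact absurd h hi
  · refine ⟨![a, Pi.single 0 1, Pi.single 2 1], rfl, Fintype.linearIndependent_iff.2 fun c hc => ?_⟩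
    have e0 := congrFun hc 0
    have e1 := congrFun hc 1
    have e2 := congrFun hc 2
    simp [Fin.sum_univ_three] at e0 e1 e2
    rcases e1 with h | h
    · intro j; fin_cases j <;> simp_all
    · exact absurd h hi
  · refine ⟨![a, Pi.single 0 1, Pi.single 1 1], rfl, Fintype.linearIndependent_iff.2 fun c hc => ?_⟩
    have e0 := congrFun hc 0
    have e1 := congrFun hc 1
    have e2 := congrFun hc 2
    simp [Fin.sum_univ_three] at e0 e1 e2
    rcases e2 with h | h
    · intro j; fin_cases j <;> simp_all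
    · exact absurd h hi

omit hk₀ in
include hω in
/-- Subgroups of `A₀` invariant under the stabiliser are unions of classes. -/
theorem kk_mem {H : Set C} (hk₀ : K.φ k₀ = π (tv hF (bu 0))) (h0 : k₀ ∈ H)
    (hinv : ∀ m ∈ K.stab, ∀ x ∈ H, m * x * m⁻¹ ∈ H) {a : Fin 3 → F} (ha : a ≠ 0) :
    K.kk hF k₀ (emb a) ∈ H := by
  obtain ⟨r, rfl, hr⟩ := exists_basis ha
  obtain ⟨g, l, hl, hg⟩ := exists_move hF (fun i => emb (r i))
    (hr.map' emb (LinearMap.ker_eq_bot.2 emb_injective)) fun i j => hh_emb_emb _ _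
  have hgs : g ∈ stabPlane := mem_stabPlane.2 fun b => ⟨∑ i, b i • (l i • r i), by
    conv_lhs => rw [pi_eq_sum_univ' b]
    simp only [map_sum, map_smul, Matrix.mulVec_sum, Matrix.mulVec_smul, hg]⟩
  obtain ⟨m, hm⟩ := K.surj (π g)
  have h0' : IsPt (bu (F := F) 0) := isPt_emb fun e => one_ne_zero (α := F) (by simpa using congrFun e 0)
  have := hinv m ⟨g, hgs, hm.symm⟩ k₀ h0
  have e := K.kk_conj hF hω hk₀ hm h0'
  rw [K.kk_base hF hω hk₀] at e
  rw [e] at this
  rw [← K.kk_smul hF hω hk₀ (isPt_emb (hr.ne_zero 0)) (hl 0)]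
  rwa [show bu (F := F) 0 = emb (Pi.single 0 1) from rfl, hg 0] at this

end Cov

end CfsgLib.SixPlane
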