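import Cfsg.Agent.Spor3T.UnitaryInvol
import Cfsg.Agent.Unitary.Isotropic

/-!
A maximal totally isotropic subspace `W` of the six dimensional unitary space over the field of four elements,
the group fixing it pointwise, and transitivity on bases.
-/

set_option autoImplicit false
set_option linter.unusedSectionVars false
set_option linter.style.haveILetI false

namespace CfsgLib.SixPlane

open Matrix CfsgLib.Unitary CfsgLib.ThreeT CfsgLib.ThreeT.SixTwo

variable {F : Type} [Field F]

/-- The coordinates of the standard plane. -/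
def emb : (Fin 3 → F) →ₗ[F] (Fin 6 → F) where
  toFun a := ![a 0, a 0, a 1, a 1, a 2, a 2]
  map_add' a b := by funext i; fin_cases i <;> simp
  map_smul' c a := by funext i; fin_cases i <;> simp

/-- Coordinates modulo the plane. -/
def co : (Fin 6 → F) →ₗ[F] (Fin 3 → F) where
  toFun x := ![x 0 + x 1, x 2 + x 3, x 4 + x 5]
  map_add' a b := by funext i; fin_cases i <;> simp <;> ring
  map_smul' c a := by funext i; fin_cases i <;> simp <;> ring

/-- A section of `co`. -/
def sec : (Fin 3 → F) →ₗ[F] (Fin 6 → F) where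
  toFun c := ![c 0, 0, c 1, 0, c 2, 0]
  map_add' a b := by funext i; fin_cases i <;> simp
  map_smul' c a := by funext i; fin_cases i <;> simp

/-- The coordinates inside the plane, for the section. -/
def inco : (Fin 6 → F) →ₗ[F] (Fin 3 → F) where
  toFun x := ![x 1, x 3, x 5]
  map_add' a b := by funext i; fin_cases i <;> simp
  map_smul' c a := by funext i; fin_cases i <;> simp

/-- The pairing of `Fin 3 → F` with itself. -/
def sf (c a : Fin 3 → F) : F := ∑ i, c i * a i ^ 2

theorem co_sec (c : Fin 3 → F) : co (sec c) = c := by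
  funext i; fin_cases i <;> simp [co, sec]

theorem inco_emb (a : Fin 3 → F) : inco (emb a) = a := by
  funext i; fin_cases i <;> simp [inco, emb]

theorem emb_injective : Function.Injective (emb (F := F)) := fun a b e => by
  rw [← inco_emb a, e, inco_emb]

theorem sf_add_left (c c' a : Fin 3 → F) : sf (c + c') a = sf c a + sf c' a := by
  simp [sf, Fin.sum_univ_three]; ring

theorem sf_smul_left (r : F) (c a : Fin 3 → F) : sf (r • c) a = r * sf c a := by
  simp [sf, Fin.sum_univ_three]; ring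

theorem sf_smul_right (r : F) (c a : Fin 3 → F) : sf c (r • a) = r ^ 2 * sf c a := by
  simp [sf, Fin.sum_univ_three]; ring

theorem sf_single_left (k : Fin 3) (a : Fin 3 → F) : sf (Pi.single k 1) a = a k ^ 2 := by
  simp [sf, Fin.sum_univ_three]; fin_cases k <;> simp

theorem sf_single_right (c : Fin 3 → F) (k : Fin 3) : sf c (Pi.single k 1) = c k := by
  simp [sf, Fin.sum_univ_three]; fin_cases k <;> simp

variable [CharP F 2]

theorem co_emb (a : Fin 3 → F) : co (emb a) = 0 := by
  funext i; fin_cases i <;> simp [co, emb, CharTwo.add_self_eq_zero]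

theorem decomp (x : Fin 6 → F) : x = sec (co x) + emb (inco x) := by
  funext i
  fin_cases i <;> simp [co, sec, emb, inco, add_assoc, CharTwo.add_self_eq_zero]

theorem eq_emb_of_co {x : Fin 6 → F} (h : co x = 0) : x = emb (inco x) := by
  conv_lhs => rw [decomp x, h, map_zero, zero_add]

theorem sf_add_right (c a a' : Fin 3 → F) : sf c (a + a') = sf c a + sf c a' := by
  simp [sf, Fin.sum_univ_three]
  linear_combination (c 0 * a 0 * a' 0 + c 1 * a 1 * a' 1 + c 2 * a 2 * a' 2) * CharTwo.two_eq_zero (R := F)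

local notation "V" => Fin 6 → F
local notation "hh" => Cfsg.hermForm 6 F 2

theorem hh_emb (x : V) (a : Fin 3 → F) : hh x (emb a) = sf (co x) a := by
  simp [Cfsg.hermForm, sf, co, emb, Fin.sum_univ_six, Fin.sum_univ_three]; ring

theorem hh_emb_emb (a b : Fin 3 → F) : hh (emb a) (emb b) = 0 := by
  rw [hh_emb, co_emb]; simp [sf]

theorem sf_ext {c c' : Fin 3 → F} (h : ∀ a, sf c a = sf c' a) : c = c' := funext fun k => by
  simpa [sf_single_right] using h (Pi.single k 1)

theorem isPt_emb {a : Fin 3 → F} (ha : a ≠ 0) : IsPt (emb a) :=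
  ⟨fun e => ha (emb_injective (by rw [e, map_zero])), hh_emb_emb a a⟩

variable [Finite F] (hF : Nat.card F = 2 ^ 2)

/-- `g` adds the form `Φ`. -/
def IsTr (g : Cfsg.SU 6 F 2) (Φ : Matrix (Fin 3) (Fin 3) F) : Prop :=
  ∀ x, suMat g *ᵥ x = x + emb (Φ *ᵥ co x)

/-- The elements fixing the plane pointwise. -/
def fixPlane : Subgroup (Cfsg.SU 6 F 2) where
  carrier := {g | ∀ a, suMat g *ᵥ emb a = emb a}
  one_mem' a := by rw [suMat_one, Matrix.one_mulVec]
  mul_mem' {g h} hg hh' a := by rw [suMat_mul, ← Matrix.mulVec_mulVec, hh' a, hg a]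
  inv_mem' {g} hg a := by
    conv_lhs => rw [← hg a]
    rw [su_inv_mulVec]

/-- The stabiliser of the plane. -/
def stabPlane : Subgroup (Cfsg.SU 6 F 2) :=
  (Cfsg.stabilizing (Cfsg.slToMat 6 F) (LinearMap.range (emb (F := F)) : Set V)).subgroupOf (Cfsg.SU 6 F 2)

theorem mem_stabPlane {g : Cfsg.SU 6 F 2} : g ∈ stabPlane ↔ ∀ a, ∃ b, suMat g *ᵥ emb a = emb b := by
  constructor
  · intro h a
    obtain ⟨b, hb⟩ := (h (emb a)).1 ⟨a, rfl⟩
    exact ⟨b, hb.symm⟩
  · intro h
    choose f hf using h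
    have hinj : Function.Injective f := fun a b e => emb_injective (by
      have := congrArg (fun t => suMat g⁻¹ *ᵥ t) ((hf a).trans ((congrArg emb e).trans (hf b).symm))
      simp only [su_inv_mulVec] at this
      exact this)
    intro v
    constructor
    · rintro ⟨a, rfl⟩; exact ⟨f a, (hf a).symm⟩
    · rintro ⟨b, hb⟩
      obtain ⟨a, rfl⟩ := Finite.surjective_of_injective hinj b
      refine ⟨a, ?_⟩
      have := congrArg (fun t => suMat g⁻¹ *ᵥ t) ((hf a).trans hb)
      simp only [su_inv_mulVec] at this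
      exact this.trans (su_inv_mulVec g v)

theorem IsTr.mem {g : Cfsg.SU 6 F 2} {Φ : Matrix (Fin 3) (Fin 3) F} (h : IsTr g Φ) : g ∈ fixPlane :=
  fun a => by rw [h, co_emb, Matrix.mulVec_zero, map_zero, add_zero]

theorem fixPlane_le : fixPlane (F := F) ≤ stabPlane := fun _ hg => mem_stabPlane.2 fun a => ⟨a, hg a⟩

theorem fixPlane_conj {g n : Cfsg.SU 6 F 2} (hg : g ∈ fixPlane) (hn : n ∈ stabPlane) :
    n * g * n⁻¹ ∈ fixPlane := fun a => by
  obtain ⟨b, hb⟩ := mem_stabPlane.1 (inv_mem hn) a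
  rw [suMat_mul, suMat_mul, ← Matrix.mulVec_mulVec, ← Matrix.mulVec_mulVec, hb, hg b, ← hb]
  have := su_inv_mulVec (n⁻¹) (emb a)
  rwa [inv_inv] at this

theorem IsTr.unique {g : Cfsg.SU 6 F 2} {Φ Ψ : Matrix (Fin 3) (Fin 3) F} (h : IsTr g Φ) (h' : IsTr g Ψ) :
    Φ = Ψ := Matrix.ext_iff_smul.mpr fun c => emb_injective (by
  have := (h (sec c)).symm.trans (h' (sec c))
  rw [co_sec] at this
  simpa [Matrix.smul_eq_mulVec] using add_left_cancel this)

theorem IsTr.eq {g h : Cfsg.SU 6 F 2} {Φ : Matrix (Fin 3) (Fin 3) F} (hg : IsTr g Φ) (hh' : IsTr h Φ) :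
    g = h := su_ext fun x => (hg x).trans (hh' x).symm

theorem IsTr.one : IsTr (1 : Cfsg.SU 6 F 2) 0 := fun x => by
  rw [suMat_one, Matrix.one_mulVec, Matrix.zero_mulVec, map_zero, add_zero]

theorem IsTr.mul {g h : Cfsg.SU 6 F 2} {Φ Ψ : Matrix (Fin 3) (Fin 3) F} (hg : IsTr g Φ) (hh' : IsTr h Ψ) :
    IsTr (g * h) (Φ + Ψ) := fun x => by
  rw [suMat_mul, ← Matrix.mulVec_mulVec, hh', hg, map_add, co_emb, add_zero, Matrix.add_mulVec, map_add]
  abel

include hF

theorem IsTr.herm {g : Cfsg.SU 6 F 2} {Φ : Matrix (Fin 3) (Fin 3) F} (h : IsTr g Φ) (j k : Fin 3) :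
    Φ j k = Φ k j ^ 2 := by
  have e := su_preserves g (sec (Pi.single k 1)) (sec (Pi.single j 1))
  rw [h, h, herm_add_left, hh_add_right hF, hh_add_right hF, co_sec, co_sec, hh_emb_emb, add_zero,
    hh_emb, co_sec, herm_swap hF (sec (Pi.single j 1)) (emb (Φ *ᵥ Pi.single k 1)), hh_emb, co_sec,
    sf_single_left, sf_single_left, Matrix.mulVec_single_one, Matrix.mulVec_single_one] at e
  simp only [Matrix.col_apply] at e
  have h2 := herm_self_fixed hF (n := 6)
  have h4 : ∀ a : F, (a ^ 2) ^ 2 = a := fun a => by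
    by_cases ha : a = 0
    · simp [ha]
    · linear_combination a * SixTwo.pow_three hF ha
  rw [h4] at e
  linear_combination e - (Φ k j ^ 2) * CharTwo.two_eq_zero (R := F)

theorem exists_isTr {g : Cfsg.SU 6 F 2} (hg : g ∈ fixPlane) : ∃ Φ, IsTr g Φ := by
  have hW : ∀ x, co (suMat g *ᵥ x - x) = 0 := fun x => sf_ext fun a => by
    rw [← hh_emb, herm_sub_left hF]
    nth_rw 1 [← hg a]
    rw [su_preserves, sub_self]; simp [sf]
  let L : (Fin 3 → F) →ₗ[F] (Fin 3 → F) := inco.comp ((Matrix.mulVecLin (suMat g)).comp sec - sec)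
  refine ⟨LinearMap.toMatrix' L, fun x => ?_⟩
  rw [LinearMap.toMatrix'_mulVec]
  have h1 := eq_emb_of_co (hW (sec (co x)))
  show suMat g *ᵥ x = x + emb (inco (suMat g *ᵥ sec (co x) - sec (co x)))
  rw [← h1]
  conv_lhs => rw [decomp x]
  conv_rhs => arg 1; rw [decomp x]
  rw [Matrix.mulVec_add, hg]
  abel

theorem isTr_tv (a : Fin 3 → F) : IsTr (tv hF (emb a)) (Matrix.of fun k j => a k * a j ^ 2) := fun x => by
  rw [tv_apply hF (hh_emb_emb a a), hh_emb, ← map_smul]
  congr 2
  funext k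
  simp [sf, Matrix.mulVec, dotProduct, Fin.sum_univ_three]; ring

/-- The unitary group is transitive, up to scalars, on bases of totally isotropic planes. -/
theorem exists_move (r : Fin 3 → V) (hr : LinearIndependent F r) (ho : ∀ i j, hh (r i) (r j) = 0) :
    ∃ (g : Cfsg.SU 6 F 2) (l : Fin 3 → F), (∀ i, l i ≠ 0) ∧
      ∀ i, suMat g *ᵥ emb (Pi.single i 1) = l i • r i := by
  have hind : LinearIndependent F fun i : Fin 3 => emb (Pi.single i (1 : F)) := by
    simpa [Function.comp_def] using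
      (Pi.basisFun F (Fin 3)).linearIndependent.map' emb (LinearMap.ker_eq_bot.2 emb_injective)
  obtain ⟨G, hG⟩ := exists_GU_family hF (fun i : Fin 3 => emb (Pi.single i (1 : F))) r hind hr
    fun i j => by rw [hh_emb_emb, ho]
  set M := ((G : Matrix.GeneralLinearGroup (Fin 6) F) : Matrix (Fin 6) (Fin 6) F) with hM
  set δ := M.det with hδ
  have h3 : δ ^ 3 = 1 := by
    have := congrArg Units.val (det_GU hF G.2)
    simpa [hδ, hM] using this
  let D : Matrix (Fin 6) (Fin 6) F := Matrix.diagonal ![δ, δ, 1, 1, 1, 1]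
  have hD : ∀ x, D *ᵥ x = fun i => (![δ, δ, 1, 1, 1, 1] : V) i * x i := fun x => funext fun i =>
    Matrix.mulVec_diagonal _ _ i
  refine ⟨⟨⟨M * D, ?_⟩, fun x y => ?_⟩, ![δ, 1, 1], ?_, fun i => ?_⟩
  · rw [Matrix.det_mul, Matrix.det_diagonal, ← hδ, Fin.prod_univ_six]
    simp only [Matrix.cons_val]
    linear_combination h3
  · show hh ((M * D) *ᵥ x) ((M * D) *ᵥ y) = hh x y
    rw [← Matrix.mulVec_mulVec, ← Matrix.mulVec_mulVec, mem_GU_iff.1 G.2, hD, hD]
    simp [Cfsg.hermForm, Fin.sum_univ_six]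
    linear_combination (x 0 * y 0 ^ 2 + x 1 * y 1 ^ 2) * h3
  · intro i
    have : δ ≠ 0 := fun e => by simp [e] at h3
    fin_cases i <;> simp [this]
  · show (M * D) *ᵥ emb (Pi.single i 1) = _
    have e : D *ᵥ emb (Pi.single i (1 : F)) = (![δ, 1, 1] : Fin 3 → F) i • emb (Pi.single i 1) := by
      rw [hD]
      funext j
      fin_cases i <;> fin_cases j <;> simp [emb]
    rw [← Matrix.mulVec_mulVec, e, Matrix.mulVec_smul, hG i]

end CfsgLib.SixPlane
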